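import Groth.Agent.L20.TorsPic.Periodic
import Mathlib.Tactic.Ring
import Mathlib.Algebra.Order.BigOperators.Group.Finset

/-!
# A nonnegative polynomial sequence of at most linear growth vanishing at zero
-/

set_option autoImplicit false

namespace Groth.L20.TorsPic

theorem linBound_diff {g : ℤ → ℤ} {C : ℤ} (hb : ∀ j, |g j| ≤ C * (|j| + 1)) (j : ℤ) :
    |diff g j| ≤ (3 * C) * (|j| + 1) := by
  have hC : 0 ≤ C := by
    have := (abs_nonneg _).trans (hb 0)
    simpa using this
  have h1 := hb j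
  have h2 := hb (j + 1)
  have h3 : |j + 1| ≤ |j| + 1 := (abs_add_le j 1).trans (by simp)
  have h4 := abs_sub (g j) (g (j + 1))
  simp only [diff]
  nlinarith [abs_nonneg j]

/-- Three vanishing differences and linear growth leave two. -/
theorem diff_two_of_three {g : ℤ → ℤ} (h : ∀ j, diff^[3] g j = 0) {C : ℤ} (hb : ∀ j, |g j| ≤ C * (|j| + 1)) :
    ∀ j, diff^[2] g j = 0 := by
  have hconst : ∀ j, diff^[2] g j = diff^[2] g 0 := by
    intro j
    induction j using Int.induction_on with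
    | zero => rfl
    | succ k ih =>
      have := h (k : ℤ)
      rw [Function.iterate_succ_apply'] at this
      unfold diff at this
      linarith [this, ih, show diff^[2] g (k : ℤ) - diff^[2] g ((k : ℤ) + 1) = 0 from this]
    | pred k ih =>
      have := h (-(k : ℤ) - 1)
      rw [Function.iterate_succ_apply'] at this
      have h' : diff^[2] g (-(k : ℤ) - 1) - diff^[2] g (-(k : ℤ) - 1 + 1) = 0 := this
      rw [sub_add_cancel] at h'
      linarith
  set c := diff^[2] g 0 with hc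
  have hstep : ∀ j, g j - 2 * g (j + 1) + g (j + 2) = c := fun j => by
    have h' := hconst j
    simp only [Function.iterate_succ_apply', Function.iterate_zero_apply, diff, add_assoc] at h' ⊢
    norm_num at h' ⊢
    linarith
  have hform : ∀ n : ℕ, 2 * g (n : ℤ) = 2 * g 0 + 2 * n * (g 1 - g 0) + n * (n - 1) * c ∧
      2 * g ((n : ℤ) + 1) = 2 * g 0 + 2 * (n + 1) * (g 1 - g 0) + (n + 1) * n * c := by
    intro n
    induction n with
    | zero => exact ⟨by simp, by push_cast; ring_nf⟩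
    | succ n ih =>
      refine ⟨?_, ?_⟩
      · push_cast
        rw [show ((n : ℤ) + 1 - 1) = n by ring]
        exact ih.2
      · push_cast
        rw [show ((n : ℤ) + 1 + 1) = (n : ℤ) + 2 by ring]
        have h2 := hstep (n : ℤ)
        linear_combination 2 * h2 + 2 * ih.2 - ih.1
  have hc0 : c = 0 := by
    by_contra hne
    have hc1 : 1 ≤ |c| := Int.one_le_abs hne
    have hC : 0 ≤ C := by
      have := (abs_nonneg _).trans (hb 0)
      simpa using this
    obtain ⟨n, hn⟩ : ∃ n : ℕ, (n : ℤ) = 2 * C + 2 * |g 0| + 2 * |g 1 - g 0| + 2 * C + 3 :=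
      ⟨_, Int.toNat_of_nonneg (by positivity)⟩
    have h1 := (hform n).1
    have h2 := hb (n : ℤ)
    rw [Nat.abs_cast] at h2
    have h3 : (n : ℤ) * ((n : ℤ) - 1) * |c| ≤ 2 * |g (n : ℤ)| + 2 * |g 0| + 2 * (n : ℤ) * |g 1 - g 0| := by
      have e : (n : ℤ) * ((n : ℤ) - 1) * c = 2 * g (n : ℤ) - 2 * g 0 - 2 * (n : ℤ) * (g 1 - g 0) := by linarith
      have hn1 : (0 : ℤ) ≤ (n : ℤ) * ((n : ℤ) - 1) := mul_nonneg (by positivity) (by linarith [abs_nonneg (g 0), abs_nonneg (g 1 - g 0)])
      rw [← abs_of_nonneg hn1, ← abs_mul, e]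
      calc |2 * g (n : ℤ) - 2 * g 0 - 2 * (n : ℤ) * (g 1 - g 0)|
          ≤ |2 * g (n : ℤ) - 2 * g 0| + |2 * (n : ℤ) * (g 1 - g 0)| := abs_sub _ _
        _ ≤ |2 * g (n : ℤ)| + |2 * g 0| + |2 * (n : ℤ) * (g 1 - g 0)| := by linarith [abs_sub (2 * g (n : ℤ)) (2 * g 0)]
        _ = _ := by simp [abs_mul]
    have hn0 : (0 : ℤ) ≤ n := by positivity
    nlinarith [abs_nonneg (g 0), abs_nonneg (g 1 - g 0), mul_le_mul_of_nonneg_left hc1 (mul_nonneg hn0 (show (0 : ℤ) ≤ (n : ℤ) - 1 by linarith [abs_nonneg (g 0), abs_nonneg (g 1 - g 0)]))]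
  exact fun j => (hconst j).trans hc0

/-- An iterated difference equation with linear growth leaves two differences. -/
theorem diff_two_eq_zero : ∀ (r : ℕ) (g : ℤ → ℤ) (C : ℤ), (∀ j, |g j| ≤ C * (|j| + 1)) →
    (∀ j, diff^[r + 2] g j = 0) → ∀ j, diff^[2] g j = 0
  | 0, _, _, _, h => h
  | r + 1, g, C, hb, h => by
    refine diff_two_of_three (fun j => ?_) hb
    rw [Function.iterate_succ_apply]
    exact diff_two_eq_zero r (diff g) (3 * C) (linBound_diff hb) (fun i => by
      rw [← Function.iterate_succ_apply]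
      exact h i) j

theorem diff_iterate_eq_zero_mono {g : ℤ → ℤ} {m : ℕ} (h : ∀ j, diff^[m] g j = 0) : ∀ j, diff^[m + 1] g j = 0 :=
  fun j => by rw [Function.iterate_succ_apply', diff, h, h, sub_zero]

/-- Such a sequence, if nonnegative, vanishes. -/
theorem eq_zero_of_linBound {g : ℤ → ℤ} {r : ℕ} (h : ∀ j, diff^[r + 1] g j = 0) {C : ℤ}
    (hb : ∀ j, g j ≤ C * (|j| + 1)) (hnn : ∀ j, 0 ≤ g j) (h0 : g 0 = 0) : g 1 = 0 := by
  have h2 := diff_two_eq_zero r g C (fun j => by rw [abs_of_nonneg (hnn j)]; exact hb j)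
    (diff_iterate_eq_zero_mono h)
  have e := h2 (-1)
  simp only [Function.iterate_succ_apply', Function.iterate_zero_apply, diff] at e
  norm_num at e
  linarith [hnn (-1), hnn 1]

end Groth.L20.TorsPic
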