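import Groth.Agent.L20.TorsPic.Gamma
import Groth.Agent.L20.TorsPic.Linear

/-!
# The colengths grow at most linearly
-/

set_option autoImplicit false
set_option linter.style.haveILetI false
set_option backward.isDefEq.respectTransparency false
universe u

noncomputable section

namespace Groth.L20.TorsPic

theorem span_pow_le {A : Type u} [CommRing A] {ι : Type u} (a : ι → A) (n : ℕ) (s : Finset ι) :
    (Ideal.span (a '' ↑s)) ^ (s.card * n + 1) ≤ Ideal.span ((fun i => a i ^ n) '' ↑s) := by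
  classical
  induction s using Finset.induction_on with
  | empty => simp
  | @insert i s hi ih =>
    rw [Finset.coe_insert, Set.image_insert_eq, Set.image_insert_eq, Ideal.span_insert, Ideal.span_insert,
      Finset.card_insert_of_notMem hi, show (s.card + 1) * n + 1 = n + (s.card * n + 1) by ring]
    exact Ideal.sup_pow_add_le_pow_sup_pow.trans (sup_le_sup (le_of_eq (Ideal.span_singleton_pow _ _)) ih)

namespace Atlas

variable {A : Type u} [CommRing A] [IsLocalRing A] [IsNoetherianRing A] {D : Atlas A} (G : D.Gens)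

/-- Multipliers of degree `j` and `-j`, units on their chart, with product a power of the scalar. -/
theorem Gens.exists_multipliers (j : ℤ) : ∃ p q : D.ι → D.T, (∀ l, p l ∈ D.M j) ∧ (∀ l, q l ∈ D.M (-j)) ∧
    (∀ l, IsUnit (q l l)) ∧ ∀ l, algebraMap A D.T (G.a l ^ j.natAbs) = p l * q l := by
  rcases Int.natAbs_eq j with hj | hj
  · refine ⟨fun l => G.t l ^ j.natAbs, fun l => G.c l ^ j.natAbs, fun l => ?_, fun l => ?_,
      fun l => (G.c_unit l).pow _, fun l => ?_⟩
    · have := D.pow_mem j.natAbs (G.t_mem l)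
      rwa [mul_one, ← hj] at this
    · have := D.pow_mem j.natAbs (G.c_mem l)
      rwa [mul_neg_one, ← hj] at this
    · rw [map_pow, G.a_eq, mul_pow, mul_comm]
  · refine ⟨fun l => G.c l ^ j.natAbs, fun l => G.t l ^ j.natAbs, fun l => ?_, fun l => ?_,
      fun l => (G.t_unit l).pow _, fun l => ?_⟩
    · have := D.pow_mem j.natAbs (G.c_mem l)
      rwa [mul_neg_one, ← hj] at this
    · have := D.pow_mem j.natAbs (G.t_mem l)
      rwa [mul_one, show (j.natAbs : ℤ) = -j by omega] at this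
    · rw [map_pow, G.a_eq, mul_pow]

variable (j : ℤ) (q : D.ι → D.T)

/-- Pairs-indexed families of tuples. -/
abbrev E (D : Atlas A) : Type u := D.ι × D.ι → D.T

/-- The second Koszul differential. -/
def dK : (D.ι → A) →ₗ[A] D.E where
  toFun b := fun lm => algebraMap A D.T (b lm.2) * q lm.1 - algebraMap A D.T (b lm.1) * q lm.2
  map_add' a b := funext fun lm => by
    simp only [Pi.add_apply, map_add]
    ring
  map_smul' c b := funext fun lm => by
    simp only [Pi.smul_apply, RingHom.id_apply, smul_eq_mul, map_mul]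
    rw [Algebra.smul_def]
    ring

/-- Cocycles of the second Koszul term. -/
def K₂ : Submodule A D.E where
  carrier := {e | (∀ l m, e (l, m) ∈ D.M (-j)) ∧ (∀ l m, e (m, l) = -e (l, m)) ∧
    ∀ l m n, e (l, m) * q n + e (m, n) * q l + e (n, l) * q m = 0}
  zero_mem' := ⟨fun _ _ => Submodule.zero_mem _, fun _ _ => by simp, fun _ _ _ => by simp⟩
  add_mem' {a b} ha hb := ⟨fun l m => add_mem (ha.1 l m) (hb.1 l m),
    fun l m => by simp only [Pi.add_apply, ha.2.1 l m, hb.2.1 l m]; abel,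
    fun l m n => by
      simp only [Pi.add_apply]
      linear_combination ha.2.2 l m n + hb.2.2 l m n⟩
  smul_mem' c a ha := ⟨fun l m => Submodule.smul_mem _ c (ha.1 l m),
    fun l m => by simp only [Pi.smul_apply, ha.2.1 l m, smul_neg],
    fun l m n => by
      simp only [Pi.smul_apply, Algebra.smul_def]
      linear_combination (algebraMap A D.T c) * ha.2.2 l m n⟩

variable {q} {j}

theorem dK_mem (hq : ∀ l, q l ∈ D.M (-j)) (b : D.ι → A) : dK q b ∈ K₂ j q := by
  refine ⟨fun l m => ?_, fun l m => ?_, fun l m n => ?_⟩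
  · show algebraMap A D.T (b m) * q l - algebraMap A D.T (b l) * q m ∈ _
    rw [← Algebra.smul_def, ← Algebra.smul_def]
    exact sub_mem (Submodule.smul_mem _ _ (hq l)) (Submodule.smul_mem _ _ (hq m))
  · show algebraMap A D.T (b l) * q m - algebraMap A D.T (b m) * q l =
      -(algebraMap A D.T (b m) * q l - algebraMap A D.T (b l) * q m)
    ring
  · show (algebraMap A D.T (b m) * q l - algebraMap A D.T (b l) * q m) * q n +
      (algebraMap A D.T (b n) * q m - algebraMap A D.T (b m) * q n) * q l +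
      (algebraMap A D.T (b l) * q n - algebraMap A D.T (b n) * q l) * q m = 0
    ring

variable (D) in
theorem smul_E_eq_zero {e : D.E} (h : D.f • e = 0) : e = 0 := funext fun lm => D.smul_eq_zero (congrFun h lm)

/-- Reduction of families. -/
def πE (D : Atlas A) : D.E →ₗ[A] (D.ι × D.ι → D.T ⧸ D.J) :=
  (Ideal.Quotient.mkₐ A D.J).toLinearMap.compLeft _

theorem exists_K₂_eq_smul {e : D.E} (he : e ∈ K₂ j q) (h : D.πE e = 0) :
    ∃ e' ∈ K₂ j q, e = D.f • e' := by
  choose e' he' hee using fun lm : D.ι × D.ι => D.exists_eq_smul (he.1 lm.1 lm.2) (congrFun h lm)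
  have hfe : e = D.f • e' := funext hee
  have hinj : ∀ z w : D.T, D.f • z = D.f • w → z = w := fun z w h =>
    sub_eq_zero.1 (D.smul_eq_zero (by rw [smul_sub, h, sub_self]))
  refine ⟨e', ⟨fun l m => he' (l, m), fun l m => hinj _ _ ?_, fun l m n => D.smul_eq_zero ?_⟩, hfe⟩
  · rw [smul_neg, ← hee (m, l), ← hee (l, m)]
    exact he.2.1 l m
  · rw [smul_add, smul_add, ← smul_mul_assoc, ← smul_mul_assoc, ← smul_mul_assoc, ← hee, ← hee, ← hee]
    exact he.2.2 l m n

theorem pow_smul_mem {p : D.ι → D.T} (hp : ∀ l, p l ∈ D.M j) {a : A} {l₀ : D.ι}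
    (ha : algebraMap A D.T a = p l₀ * q l₀) {e : D.E} (he : e ∈ K₂ j q) :
    a • e ∈ LinearMap.range (dK q) := by
  choose b hb using fun m => D.exists_scalar (z := p l₀ * e (l₀, m)) (by simpa using D.mul_mem (hp l₀) (he.1 l₀ m))
  refine ⟨b, funext fun ⟨l, m⟩ => ?_⟩
  show algebraMap A D.T (b m) * q l - algebraMap A D.T (b l) * q m = a • e (l, m)
  rw [hb, hb, Algebra.smul_def, ha]
  linear_combination -(p l₀) * he.2.2 l m l₀ + (p l₀) * q l * he.2.1 l₀ m

theorem K₂_fg (hM : (D.M (-j)).FG) : (K₂ j q).FG := by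
  haveI : Module.Finite A ↥(D.M (-j)) := Module.Finite.iff_fg.2 hM
  let Φ : (D.ι × D.ι → ↥(D.M (-j))) →ₗ[A] D.E := (D.M (-j)).subtype.compLeft _
  have hle : K₂ j q ≤ LinearMap.range Φ := fun e he => ⟨fun lm => ⟨e lm, he.1 lm.1 lm.2⟩, funext fun _ => rfl⟩
  haveI : IsNoetherian A ↥(LinearMap.range Φ) := isNoetherian_range Φ
  have h := IsNoetherian.noetherian ((K₂ j q).comap (LinearMap.range Φ).subtype)
  have h2 := h.map (LinearMap.range Φ).subtype
  rwa [Submodule.map_comap_subtype, inf_eq_right.2 hle] at h2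

theorem mem_map_f_iff {i : D.ι} {z : D.R i} :
    z ∈ (Ideal.span {D.f}).map (algebraMap A (D.R i)) ↔ ∃ w, w * algebraMap A (D.R i) D.f = z := by
  rw [Ideal.map_span, Set.image_singleton]
  exact Ideal.mem_span_singleton'

theorem apply_mem_of_mk_eq {z w : D.T} (h : Ideal.Quotient.mk D.J z = Ideal.Quotient.mk D.J w) (i : D.ι) :
    z i - w i ∈ (Ideal.span {D.f}).map (algebraMap A (D.R i)) := by
  obtain ⟨c, hc⟩ := Ideal.mem_span_singleton'.1 (Ideal.Quotient.eq.1 h)
  exact mem_map_f_iff.2 ⟨c i, congrFun hc i⟩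

theorem mk_eq_of_apply_mem {z w : D.T} (h : ∀ i, z i - w i ∈ (Ideal.span {D.f}).map (algebraMap A (D.R i))) :
    Ideal.Quotient.mk D.J z = Ideal.Quotient.mk D.J w := by
  choose c hc using fun i => mem_map_f_iff.1 (h i)
  exact Ideal.Quotient.eq.2 (Ideal.mem_span_singleton'.2 ⟨c, funext hc⟩)

variable (D) in
theorem reg_quot {x : A} (hx : ∀ z, x * z ∈ Ideal.span {D.f} → z ∈ Ideal.span {D.f}) {z : D.T ⧸ D.J}
    (h : x • z = 0) : z = 0 := by
  obtain ⟨z, rfl⟩ := Ideal.Quotient.mk_surjective z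
  rw [← map_zero (Ideal.Quotient.mk D.J)]
  refine mk_eq_of_apply_mem fun i => ?_
  have h1 : Ideal.Quotient.mk D.J (x • z) = Ideal.Quotient.mk D.J 0 := by rw [map_zero]; exact h
  have h2 := apply_mem_of_mk_eq h1 i
  simp only [Pi.zero_apply, sub_zero, Pi.smul_apply, Algebra.smul_def] at h2 ⊢
  obtain ⟨⟨a, s⟩, hs⟩ := IsLocalization.surj (Submonoid.powers (D.g i)) (z i)
  have h3 : algebraMap A (D.R i) (x * a) ∈ (Ideal.span {D.f}).map (algebraMap A (D.R i)) := by
    rw [map_mul, ← hs, ← mul_assoc]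
    exact Ideal.mul_mem_right _ _ h2
  obtain ⟨n, hn⟩ := exists_pow_mul_mem (s := D.g i) h3
  have h4 : D.g i ^ n * a ∈ Ideal.span {D.f} := hx _ (by rwa [mul_left_comm] at hn)
  have h5 := Ideal.mem_map_of_mem (algebraMap A (D.R i)) h4
  rw [map_mul, map_pow, ← hs, mul_comm (z i), ← mul_assoc] at h5
  exact (Ideal.unit_mul_mem_iff_mem _
    (((isUnit_g D.g D.R i).pow n).mul (IsLocalization.map_units (D.R i) s))).1 h5

theorem colen_le_of_multipliers {x : A} (hx : ∀ z, x * z ∈ Ideal.span {D.f} → z ∈ Ideal.span {D.f})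
    (hB : (1 : ℕ∞) ≤ LocCoh.idealDepth (IsLocalRing.maximalIdeal A) (QuotSMulTop x (QuotSMulTop D.f A)))
    {p : D.ι → D.T} (hp : ∀ l, p l ∈ D.M j) (hq : ∀ l, q l ∈ D.M (-j)) (hqu : ∀ l, IsUnit (q l l))
    (hpq : ∀ l, algebraMap A D.T (G.a l ^ j.natAbs) = p l * q l) {k₀ : ℕ}
    (hk₀ : IsLocalRing.maximalIdeal A ^ k₀ ≤ Ideal.span (Set.range G.a)) (hxm : x ∈ IsLocalRing.maximalIdeal A) :
    G.setting.colen j ≤ ((k₀ * (Fintype.card D.ι * j.natAbs + 1) : ℕ) : ℕ∞) * rl (D.glued x) (D.scalars x) := by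
  classical
  let d := dK (D := D) q
  let K := K₂ (D := D) j q
  let mf : D.E →ₗ[A] D.E := LinearMap.lsmul A D.E D.f
  let B : Submodule A D.E := LinearMap.range d
  have hBK : B ≤ K := by rintro _ ⟨b, rfl⟩; exact dK_mem hq b
  let N₀ := k₀ * (Fintype.card D.ι * j.natAbs + 1)
  have hkill : ∀ r ∈ IsLocalRing.maximalIdeal A ^ N₀, ∀ e ∈ K, r • e ∈ B := by
    intro r hr e he
    have h1 : Ideal.span ((fun i => G.a i ^ j.natAbs) '' ↑(Finset.univ : Finset D.ι)) ≤ B.colon ({e} : Set D.E) := by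
      rw [Ideal.span_le]
      rintro _ ⟨i, -, rfl⟩
      exact Submodule.mem_colon_singleton.2 (pow_smul_mem hp (hpq i) he)
    refine Submodule.mem_colon_singleton.1 (h1 (span_pow_le G.a j.natAbs Finset.univ ?_))
    rw [Finset.card_univ, Finset.coe_univ, Set.image_univ]
    rw [pow_mul] at hr
    exact Ideal.pow_right_mono hk₀ _ hr
  obtain ⟨k, hk⟩ : ∃ k, ∀ r ∈ IsLocalRing.maximalIdeal A ^ k, ∀ e ∈ K, r • e ∈ B := ⟨N₀, hkill⟩
  have hH : rl K B ≠ ⊤ := rl_ne_top (k := k) (K₂_fg (G.fg (-j))) hk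
  -- scalars lifting the multipliers
  choose ql hql using fun l => D.exists_scalar_mod (hq l)
  let Θ : A →ₗ[A] (D.ι → A) := LinearMap.toSpanSingleton A (D.ι → A) ql
  let π₀ : A →ₗ[A] D.T ⧸ D.J := Algebra.linearMap A (D.T ⧸ D.J)
  let πM := (D.M j).map (Ideal.Quotient.mkₐ A D.J).toLinearMap
  let W : Submodule A (D.ι → A) := (K.map mf).comap d
  let fA : Submodule A (D.ι → A) := (⊤ : Submodule A (D.ι → A)).map (LinearMap.lsmul A (D.ι → A) D.f)
  let Y : Submodule A (D.ι → A) := LinearMap.ker d ⊔ fA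
  have hπd : ∀ b, D.πE (d b) = fun lm => Ideal.Quotient.mk D.J (algebraMap A D.T (b lm.2 * ql lm.1 - b lm.1 * ql lm.2)) :=
    fun b => funext fun lm => by
      show Ideal.Quotient.mk D.J (algebraMap A D.T (b lm.2) * q lm.1 - algebraMap A D.T (b lm.1) * q lm.2) = _
      simp only [map_sub, map_mul, hql]
  have hΘW : (⊤ : Submodule A A).map Θ ≤ W := by
    rintro _ ⟨c, -, rfl⟩
    obtain ⟨e', he', hee⟩ := exists_K₂_eq_smul (dK_mem hq (Θ c)) (by
      rw [hπd]
      funext lm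
      show Ideal.Quotient.mk D.J (algebraMap A D.T (c * ql lm.2 * ql lm.1 - c * ql lm.1 * ql lm.2)) = 0
      rw [show c * ql lm.2 * ql lm.1 - c * ql lm.1 * ql lm.2 = 0 by ring, map_zero, map_zero])
    exact ⟨e', he', hee.symm⟩
  have hI : Y.comap Θ ≤ πM.comap π₀ := by
    intro c hc
    obtain ⟨b₀, hb₀, _, ⟨b', -, rfl⟩, hsum⟩ := Submodule.mem_sup.1 hc
    have hb₀' : ∀ l m, algebraMap A D.T (b₀ m) * q l = algebraMap A D.T (b₀ l) * q m := fun l m =>
      sub_eq_zero.1 (congrFun (LinearMap.mem_ker.1 hb₀) (l, m))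
    choose w hw using fun l => (hqu l).exists_right_inv
    let z : D.T := fun k => algebraMap A (D.R k) (b₀ k) * w k
    have hzq : ∀ l, z * q l = algebraMap A D.T (b₀ l) := fun l => funext fun k => by
      show algebraMap A (D.R k) (b₀ k) * w k * q l k = algebraMap A (D.R k) (b₀ l)
      have := congrFun (hb₀' l k) k
      simp only [Pi.mul_apply, Pi.algebraMap_apply] at this
      linear_combination (w k) * this + (algebraMap A (D.R k) (b₀ l)) * hw k
    have hz : z ∈ D.M j := fun i k => by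
      have h1 := congrArg (D.r₁ i k) (congrFun (hzq i) i)
      have h2 := congrArg (D.r₂ i k) (congrFun (hzq i) k)
      have h3 := hq i i k
      simp only [Pi.mul_apply, Pi.algebraMap_apply, map_mul, AlgHom.commutes] at h1 h2
      refine ((hqu i).map (D.r₁ i k)).mul_left_inj.1 ?_
      rw [h1, h3, ← h2, zpow_neg]
      linear_combination -(D.r₂ i k (z k) * D.r₂ i k (q i k)) * (D.u i k ^ j).mul_inv
    refine ⟨z, hz, ?_⟩
    show Ideal.Quotient.mk D.J z = Ideal.Quotient.mk D.J (algebraMap A D.T c)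
    refine mk_eq_of_apply_mem fun i => ?_
    obtain ⟨e, he⟩ := mem_map_f_iff.1 (apply_mem_of_mk_eq (hql i) i)
    refine (Ideal.mul_unit_mem_iff_mem _ (hqu i)).1 (mem_map_f_iff.2 ⟨-(algebraMap A (D.R i) (b' i)) - algebraMap A (D.R i) c * e, ?_⟩)
    have h1 := congrFun (hzq i) i
    have h2 : algebraMap A (D.R i) (b₀ i) + algebraMap A (D.R i) D.f * algebraMap A (D.R i) (b' i) =
        algebraMap A (D.R i) c * algebraMap A (D.R i) (ql i) := by
      rw [← map_mul, ← map_add, ← map_mul]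
      exact congrArg (algebraMap A (D.R i)) (congrFun hsum i)
    simp only [Pi.mul_apply, Pi.algebraMap_apply] at h1 he ⊢
    linear_combination -(algebraMap A (D.R i) c) * he - h1 - h2
  have c1 : G.setting.colen j ≤ rl (sat D.f K B) B := by
    show rl (LinearMap.range π₀) πM ≤ _
    rw [LinearMap.range_eq_map, ← rl_comap]
    refine (rl_anti_right (inf_le_right.trans hI)).trans ?_
    rw [rl_comap]
    refine (rl_mono_left hΘW _).trans (le_of_eq ?_)
    have hfinj : ∀ e : D.E, mf e = 0 → e = 0 := fun e h => D.smul_E_eq_zero h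
    have hBs : B ≤ sat D.f K B := le_inf hBK fun b hb => B.smul_mem D.f hb
    have h1 : Y ≤ W := by
      refine sup_le (fun b hb => ⟨0, zero_mem _, (map_zero _).trans (LinearMap.mem_ker.1 hb).symm⟩) ?_
      rintro _ ⟨b, -, rfl⟩
      exact ⟨d b, dK_mem hq b, (map_smul d D.f b).symm⟩
    rw [← rl_map_injOn d h1 (inf_le_right.trans le_sup_left)]
    have e1 : W.map d = (sat D.f K B).map mf := by
      refine le_antisymm ?_ ?_
      · rintro _ ⟨b, ⟨e', he', hee⟩, rfl⟩
        exact ⟨e', ⟨he', ⟨b, hee.symm⟩⟩, hee⟩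
      · rintro _ ⟨e', ⟨he', ⟨b, hb⟩⟩, rfl⟩
        exact ⟨b, ⟨e', he', hb.symm⟩, hb⟩
    have e2 : Y.map d = B.map mf := by
      rw [Submodule.map_sup, show (LinearMap.ker d).map d = ⊥ from by
        rw [Submodule.eq_bot_iff]; rintro _ ⟨b, hb, rfl⟩; exact hb, bot_sup_eq]
      refine le_antisymm ?_ ?_
      · rintro _ ⟨_, ⟨b, -, rfl⟩, rfl⟩
        exact ⟨d b, ⟨b, rfl⟩, (map_smul d D.f b).symm⟩
      · rintro _ ⟨_, ⟨b, rfl⟩, rfl⟩
        exact ⟨_, ⟨b, trivial, rfl⟩, map_smul d D.f b⟩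
    rw [e1, e2, rl_map_injOn mf hBs fun e he => by
      rw [hfinj e (LinearMap.mem_ker.1 he.2)]
      exact zero_mem _]
  refine c1.trans ?_
  rw [← rl_quot_eq_sat D.f hBK (fun e _ he => D.smul_E_eq_zero he) hH]
  -- pass modulo f
  let S := K.map D.πE
  let S₀ := B.map D.πE
  have hπf : ∀ e : D.E, D.πE (D.f • e) = 0 := fun e => funext fun lm => by
    show Ideal.Quotient.mk D.J (D.f • e lm) = 0
    rw [Algebra.smul_def]
    exact Ideal.Quotient.eq_zero_iff_mem.2 (Ideal.mul_mem_right _ _ (Ideal.mem_span_singleton_self _))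
  have c2 : rl K (B ⊔ K.map mf) = rl S S₀ := by
    have hle : B ⊔ K.map mf ≤ K := sup_le hBK (by rintro _ ⟨e, he, rfl⟩; exact K.smul_mem D.f he)
    rw [← rl_map_injOn D.πE hle fun e he => ?_]
    · congr 1
      rw [Submodule.map_sup, sup_eq_left]
      rintro _ ⟨_, ⟨e, -, rfl⟩, rfl⟩
      rw [show D.πE (mf e) = 0 from hπf e]
      exact zero_mem _
    · obtain ⟨e', he', hee⟩ := exists_K₂_eq_smul he.1 he.2
      exact Submodule.mem_sup_right ⟨e', he', hee.symm⟩
  rw [c2]
  refine rl_le_mul (x := x) (c := rl (D.glued x) (D.scalars x)) ?_ N₀ ?_ (Submodule.map_mono hBK)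
  swap
  · rintro _ ⟨e, he, rfl⟩
    exact ⟨x ^ N₀ • e, hkill _ (Ideal.pow_mem_pow hxm N₀) e he, map_smul _ _ _⟩
  -- the torsion of the quotient embeds into the glued module
  let P₀ := (D.ι × D.ι → D.T ⧸ D.J)
  let mx : P₀ →ₗ[A] P₀ := LinearMap.lsmul A P₀ x
  let S₁ := S ⊓ S₀.comap mx
  let ψ := D.πE ∘ₗ d
  let W₁ : Submodule A (D.ι → A) := (S₁.map mx).comap ψ
  let xA : Submodule A (D.ι → A) := (⊤ : Submodule A (D.ι → A)).map (LinearMap.lsmul A (D.ι → A) x)
  let Y₁ : Submodule A (D.ι → A) := xA ⊔ LinearMap.ker ψ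
  have hS₀ : S₀ = LinearMap.range ψ := (LinearMap.range_comp d D.πE).symm
  have hS₀S : S₀ ≤ S₁ := fun s hs => ⟨Submodule.map_mono hBK hs, S₀.smul_mem x hs⟩
  have eW : W₁.map ψ = S₁.map mx := by
    refine Submodule.map_comap_eq_self ?_
    rintro _ ⟨s, hs, rfl⟩
    exact hS₀.le hs.2
  have eY : Y₁.map ψ = S₀.map mx := by
    rw [Submodule.map_sup, show (LinearMap.ker ψ).map ψ = ⊥ from by
      rw [Submodule.eq_bot_iff]; rintro _ ⟨b, hb, rfl⟩; exact hb, sup_bot_eq]
    refine le_antisymm ?_ ?_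
    · rintro _ ⟨_, ⟨b, -, rfl⟩, rfl⟩
      exact ⟨ψ b, hS₀.ge ⟨b, rfl⟩, (map_smul ψ x b).symm⟩
    · rintro _ ⟨s, hs, rfl⟩
      obtain ⟨b, rfl⟩ := hS₀.le hs
      exact ⟨_, ⟨b, trivial, rfl⟩, map_smul ψ x b⟩
  have hYW : Y₁ ≤ W₁ := fun b hb => by
    have h : ψ b ∈ Y₁.map ψ := ⟨b, hb, rfl⟩
    rw [eY] at h
    exact Submodule.map_mono hS₀S h
  have c3 : rl S₁ S₀ = rl W₁ Y₁ := by
    rw [← rl_map_injOn mx hS₀S fun s hs => ?_, ← eW, ← eY, rl_map_injOn ψ hYW (inf_le_right.trans le_sup_right)]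
    rw [show s = 0 from funext fun lm => D.reg_quot hx (congrFun (LinearMap.mem_ker.1 hs.2) lm)]
    exact zero_mem _
  refine c3.le.trans ?_
  choose w hw using fun l => (hqu l).exists_right_inv
  let σ : (D.ι → A) →ₗ[A] D.T ⧸ D.J₂ x := (Ideal.Quotient.mkₐ A (D.J₂ x)).toLinearMap ∘ₗ
    LinearMap.pi fun i => (LinearMap.mulRight A (w i)).comp ((Algebra.linearMap A (D.R i)).comp (LinearMap.proj i))
  have hσ : ∀ b, σ b = Ideal.Quotient.mk (D.J₂ x) (fun i => algebraMap A (D.R i) (b i) * w i) := fun b => rfl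
  -- congruences from `W₁`
  have hcong : ∀ b ∈ W₁, ∀ l m i, algebraMap A (D.R i) (b m) * q l i - algebraMap A (D.R i) (b l) * q m i ∈
      (D.I₂ x).map (algebraMap A (D.R i)) := by
    intro b hb l m i
    obtain ⟨s, hs, hsb⟩ := hb
    obtain ⟨e, -, rfl⟩ := hs.1
    have h1 : Ideal.Quotient.mk D.J (d b (l, m)) = Ideal.Quotient.mk D.J (x • e (l, m)) := (congrFun hsb (l, m)).symm
    have h2 := apply_mem_of_mk_eq h1 i
    have h3 : (x • e (l, m)) i ∈ (D.I₂ x).map (algebraMap A (D.R i)) := by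
      rw [Pi.smul_apply, Algebra.smul_def]
      exact Ideal.mul_mem_right _ _ (Ideal.mem_map_of_mem _ (Ideal.subset_span (Set.mem_insert_of_mem _ rfl)))
    have h4 := Ideal.map_mono (f := algebraMap A (D.R i))
      (show Ideal.span {D.f} ≤ D.I₂ x from Ideal.span_mono (Set.singleton_subset_iff.2 (Set.mem_insert _ _))) h2
    have h5 := add_mem h4 h3
    rwa [sub_add_cancel] at h5
  have hσW : W₁.map σ ≤ D.glued x := by
    rintro _ ⟨b, hb, rfl⟩
    refine ⟨fun i => algebraMap A (D.R i) (b i) * w i, fun i k => ?_, (hσ b).symm⟩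
    have h1 := hcong b hb i k k
    have h1' := Ideal.mem_map_of_mem (D.r₂ i k).toRingHom h1
    rw [Ideal.map_map, show (D.r₂ i k).toRingHom.comp (algebraMap A (D.R k)) = algebraMap A (D.R₂ i k) from
      (D.r₂ i k).comp_algebraMap] at h1'
    simp only [AlgHom.toRingHom_eq_coe, RingHom.coe_coe, map_sub, map_mul, AlgHom.commutes] at h1'
    have h2 : D.r₁ i k (q i i) - D.r₂ i k (q i k) ∈ (D.I₂ x).map (algebraMap A (D.R₂ i k)) := by
      refine Ideal.map_mono (show Ideal.span {D.f} ≤ D.I₂ x from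
        Ideal.span_mono (Set.singleton_subset_iff.2 (Set.mem_insert _ _))) ?_
      rw [hq i i k, show ((D.u i k ^ (-j) : (D.R₂ i k)ˣ) : D.R₂ i k) * D.r₂ i k (q i k) - D.r₂ i k (q i k) =
        (((D.u i k ^ (-j) : (D.R₂ i k)ˣ) : D.R₂ i k) - 1) * D.r₂ i k (q i k) by ring]
      exact Ideal.mul_mem_right _ _ (D.zpow_congr_one (-j) i k)
    have hwi : D.r₁ i k (q i i) * D.r₁ i k (w i) = 1 := by rw [← map_mul, hw, map_one]
    have hwk : D.r₂ i k (q k k) * D.r₂ i k (w k) = 1 := by rw [← map_mul, hw, map_one]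
    simp only [map_mul, AlgHom.commutes]
    rw [show algebraMap A (D.R₂ i k) (b i) * D.r₁ i k (w i) - algebraMap A (D.R₂ i k) (b k) * D.r₂ i k (w k) =
      -(D.r₁ i k (w i) * D.r₂ i k (w k)) *
        (algebraMap A (D.R₂ i k) (b k) * D.r₂ i k (q i k) - algebraMap A (D.R₂ i k) (b i) * D.r₂ i k (q k k)) +
      -(D.r₁ i k (w i) * D.r₂ i k (w k) * algebraMap A (D.R₂ i k) (b k)) *
        (D.r₁ i k (q i i) - D.r₂ i k (q i k)) by
      linear_combination (algebraMap A (D.R₂ i k) (b k) * D.r₂ i k (w k)) * hwi -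
        (algebraMap A (D.R₂ i k) (b i) * D.r₁ i k (w i)) * hwk]
    exact add_mem (Ideal.mul_mem_left _ _ h1') (Ideal.mul_mem_left _ _ h2)
  have hker : W₁ ⊓ (D.scalars x).comap σ ≤ Y₁ := by
    rintro b ⟨hb, c, hc⟩
    rw [hσ, D.scalar_eq, Ideal.Quotient.eq, D.mem_J₂] at hc
    have hl : ∀ l, b l - c * ql l ∈ D.I₂ x := fun l => by
      have h0 : D.toT₂ x (Submodule.Quotient.mk (Submodule.Quotient.mk (b l - c * ql l))) = 0 := by
        rw [D.toT₂_mk, Ideal.Quotient.eq_zero_iff_mem, D.mem_J₂]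
        intro i
        have h1 := hcong b hb l i i
        have h2 := hc i
        have h3 := Ideal.map_mono (f := algebraMap A (D.R i)) (show Ideal.span {D.f} ≤ D.I₂ x from
          Ideal.span_mono (Set.singleton_subset_iff.2 (Set.mem_insert _ _))) (apply_mem_of_mk_eq (hql l) i)
        simp only [Pi.algebraMap_apply] at h2 h3 ⊢
        rw [show algebraMap A (D.R i) (b l - c * ql l) =
            -w i * (algebraMap A (D.R i) (b i) * q l i - algebraMap A (D.R i) (b l) * q i i) +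
            -q l i * (algebraMap A (D.R i) c - algebraMap A (D.R i) (b i) * w i) +
            algebraMap A (D.R i) c * (q l i - algebraMap A (D.R i) (ql l)) by
          rw [map_sub, map_mul]
          linear_combination -(algebraMap A (D.R i) (b l)) * hw i]
        exact add_mem (add_mem (Ideal.mul_mem_left _ _ h1) (Ideal.mul_mem_left _ _ h2)) (Ideal.mul_mem_left _ _ h3)
      have h1 : (Submodule.Quotient.mk (Submodule.Quotient.mk (b l - c * ql l)) : QuotSMulTop x (QuotSMulTop D.f A)) = 0 :=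
        D.toT₂_injective x hB (h0.trans (map_zero _).symm)
      obtain ⟨y, -, hy⟩ := (Submodule.mem_smul_pointwise_iff_exists _ _ _).1 ((Submodule.Quotient.mk_eq_zero _).1 h1)
      obtain ⟨y, rfl⟩ := Submodule.Quotient.mk_surjective _ y
      rw [← Submodule.Quotient.mk_smul, Submodule.Quotient.eq, Submodule.mem_smul_pointwise_iff_exists] at hy
      obtain ⟨y', -, hy'⟩ := hy
      refine Ideal.mem_span_pair.2 ⟨-y', y, ?_⟩
      simp only [smul_eq_mul] at hy'
      linear_combination -hy'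
    choose b' b'' hb' using fun l => Ideal.mem_span_pair.1 (hl l)
    refine Submodule.mem_sup.2 ⟨x • b'', ⟨b'', trivial, rfl⟩, b - x • b'', ?_, by abel⟩
    have hd : D.πE (d (b - x • b'')) = 0 := by
      rw [hπd]
      funext lm
      show Ideal.Quotient.mk D.J (algebraMap A D.T _) = 0
      refine Ideal.Quotient.eq_zero_iff_mem.2 (Ideal.mem_span_singleton'.2
        ⟨algebraMap A D.T (b' lm.2 * ql lm.1 - b' lm.1 * ql lm.2), ?_⟩)
      rw [← map_mul]
      congr 1
      simp only [Pi.sub_apply, Pi.smul_apply, smul_eq_mul]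
      linear_combination (ql lm.1) * hb' lm.2 - (ql lm.2) * hb' lm.1
    exact hd
  calc rl W₁ Y₁ ≤ rl W₁ ((D.scalars x).comap σ) := rl_anti_right hker
    _ = rl (W₁.map σ) (D.scalars x) := rl_comap σ _ _
    _ ≤ _ := rl_mono_left hσW _

/-- Linear growth forces a unit section. -/
theorem Gens.exists_unit_section_of_linear (G : D.Gens) (x : A) (hxm : x ∈ IsLocalRing.maximalIdeal A)
    (hx : ∀ z, x * z ∈ Ideal.span {D.f} → z ∈ Ideal.span {D.f})
    (hB : (1 : ℕ∞) ≤ LocCoh.idealDepth (IsLocalRing.maximalIdeal A) (QuotSMulTop x (QuotSMulTop D.f A)))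
    (hkill : ∃ k : ℕ, ∀ r ∈ IsLocalRing.maximalIdeal A ^ k,
      ∀ c : LocCoh.H (IsLocalRing.maximalIdeal A) 1 (QuotSMulTop x (QuotSMulTop D.f A)), r • c = 0) :
    ∃ z ∈ D.M 1, ∀ i, IsUnit (z i) := by
  obtain ⟨c, hc⟩ := ENat.ne_top_iff_exists.1 (D.rl_glued_ne_top x hB hkill)
  obtain ⟨k₀, hk₀⟩ : ∃ k₀, IsLocalRing.maximalIdeal A ^ k₀ ≤ Ideal.span (Set.range G.a) :=
    G.setting.exists_pow_le _ fun i _ => ⟨1, by rw [pow_one]; exact Ideal.subset_span ⟨i, rfl⟩⟩
  refine G.exists_unit_section ((ENat.toNat_eq_zero.1 ?_).resolve_right (G.setting.colen_ne_top 1))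
  have key : ∀ j : ℤ, ((G.setting.colen j).toNat : ℤ) ≤
      ((k₀ * (Fintype.card D.ι + 1) * c : ℕ) : ℤ) * (|j| + 1) := fun j => by
    obtain ⟨p, q, hp, hq, hqu, hpq⟩ := G.exists_multipliers j
    have h := colen_le_of_multipliers G hx hB hp hq hqu hpq hk₀ hxm
    rw [← hc, ← Nat.cast_mul] at h
    obtain ⟨m, hm⟩ := ENat.ne_top_iff_exists.1 (G.setting.colen_ne_top j)
    rw [← hm] at h ⊢
    have h' : m ≤ k₀ * (Fintype.card D.ι * j.natAbs + 1) * c := by exact_mod_cast h
    rw [ENat.toNat_natCast, ← Int.natCast_natAbs j]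
    have h'' : m ≤ k₀ * (Fintype.card D.ι + 1) * c * (j.natAbs + 1) := h'.trans (by nlinarith [Nat.zero_le c, Nat.zero_le j.natAbs, Nat.zero_le k₀, Nat.zero_le (k₀ * c), Nat.zero_le (k₀ * c * Fintype.card D.ι), Nat.zero_le (k₀ * c * j.natAbs)])
    exact_mod_cast h''
  have := eq_zero_of_linBound (g := fun j => ((G.setting.colen j).toNat : ℤ)) G.setting.iterate_diff_eq_zero key
    (fun j => Int.natCast_nonneg _) (by simp [G.setting.colen_zero])
  exact_mod_cast this

end Atlas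

end Groth.L20.TorsPic
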