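import Groth.Agent.L20.TorsPic.Core
import Mathlib.RingTheory.Localization.Away.Basic
import Mathlib.RingTheory.Localization.Ideal
import Mathlib.RingTheory.Ideal.Quotient.Operations

/-!
# Torsion line bundles on the punctured spectrum given by units on basic opens
-/

set_option autoImplicit false
set_option linter.style.haveILetI false
set_option linter.unusedSectionVars false
universe u

noncomputable section

namespace Groth.L20.TorsPic

section Glue

variable {A : Type u} [CommRing A] {ι : Type u} [Finite ι] (g : ι → A)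
  (R : ι → Type u) [∀ i, CommRing (R i)] [∀ i, Algebra A (R i)] [∀ i, IsLocalization.Away (g i) (R i)]
  (R₂ : ι → ι → Type u) [∀ i k, CommRing (R₂ i k)] [∀ i k, Algebra A (R₂ i k)]
  [∀ i k, IsLocalization.Away (g i * g k) (R₂ i k)]
  (r₁ : ∀ i k, R i →ₐ[A] R₂ i k) (r₂ : ∀ i k, R k →ₐ[A] R₂ i k)

theorem isUnit_g (i : ι) : IsUnit (algebraMap A (R i) (g i)) :=
  IsLocalization.Away.algebraMap_isUnit (g i)

theorem not_mem_of_isUnit {i : ι} {a : A} (ha : IsUnit (algebraMap A (R i) a)) {p : Ideal A} (hp : p.IsPrime)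
    (hg : g i ∉ p) : a ∉ p := by
  intro hap
  have hdisj : Disjoint (Submonoid.powers (g i) : Set A) (p : Set A) := by
    rw [Set.disjoint_left]
    rintro _ ⟨n, rfl⟩ h
    exact hg (hp.mem_of_pow_mem n h)
  exact (IsLocalization.isPrime_of_isPrime_disjoint (Submonoid.powers (g i)) (R i) p hp hdisj).ne_top
    (Ideal.eq_top_of_isUnit_mem _ (Ideal.mem_map_of_mem _ hap) ha)

/-- Reduction of membership of `(f)` in a localization. -/
theorem exists_pow_mul_mem {B : Type u} [CommRing B] [Algebra A B] {s : A} [IsLocalization.Away s B] {I : Ideal A}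
    {a : A} (ha : algebraMap A B a ∈ I.map (algebraMap A B)) : ∃ n : ℕ, s ^ n * a ∈ I := by
  obtain ⟨_, ⟨n, rfl⟩, h⟩ := (IsLocalization.algebraMap_mem_map_algebraMap_iff (Submonoid.powers s) B I a).1 ha
  exact ⟨n, h⟩

variable {g}

/-- An element with vanishing restrictions to the basic opens is in the ideal. -/
theorem mem_of_forall_mem (I : Ideal A) {x : A} (hx : ∀ z, x * z ∈ I → z ∈ I) (hxg : x ∈ (Ideal.span (Set.range g)).radical)
    {a : A} (h : ∀ i, algebraMap A (R i) a ∈ I.map (algebraMap A (R i))) : a ∈ I := by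
  cases nonempty_fintype ι
  choose n hn using fun i => exists_pow_mul_mem (s := g i) (h i)
  obtain ⟨e, he⟩ := hxg
  have hsub : Ideal.span (Set.range g) ≤ ((I.colon ({a} : Set A))).radical := by
    rw [Ideal.span_le]
    rintro _ ⟨i, rfl⟩
    exact ⟨n i, Submodule.mem_colon_singleton.2 (hn i)⟩
  obtain ⟨e', he'⟩ := hsub he
  have hpow : ∀ (m : ℕ) (z : A), x ^ m * z ∈ I → z ∈ I := by
    intro m
    induction m with
    | zero => intro z hz; simpa using hz
    | succ m ih => intro z hz; exact ih z (hx _ (by rwa [← mul_assoc, ← pow_succ']))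
  exact hpow (e * e') a (by simpa [pow_mul] using Submodule.mem_colon_singleton.1 he')

/-- Compatible families modulo an ideal come from the ring. -/
theorem exists_glue_mod (I : Ideal A) {x y : A} (hx : ∀ z, x * z ∈ I → z ∈ I)
    (hy : ∀ z w, y * z - x * w ∈ I → ∃ a, z - x * a ∈ I) (hxg : x ∈ (Ideal.span (Set.range g)).radical)
    (hyg : y ∈ (Ideal.span (Set.range g)).radical) (z : ∀ i, R i)
    (hz : ∀ i k, r₁ i k (z i) - r₂ i k (z k) ∈ I.map (algebraMap A (R₂ i k))) :
    ∃ a, ∀ i, z i - algebraMap A (R i) a ∈ I.map (algebraMap A (R i)) := by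
  classical
  cases nonempty_fintype ι
  choose p hp using fun i => IsLocalization.surj (Submonoid.powers (g i)) (z i)
  choose e he using fun i => (p i).2.2
  let E := Finset.univ.sup e
  have hrep : ∀ i, z i * algebraMap A (R i) (g i ^ E) = algebraMap A (R i) ((p i).1 * g i ^ (E - e i)) := fun i => by
    show z i * algebraMap A (R i) (g i ^ Finset.univ.sup e) =
      algebraMap A (R i) ((p i).1 * g i ^ (Finset.univ.sup e - e i))
    obtain ⟨d, hd⟩ := Nat.exists_eq_add_of_le (Finset.le_sup (Finset.mem_univ i) : e i ≤ E)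
    rw [hd, Nat.add_sub_cancel_left, pow_add, map_mul, ← mul_assoc, map_mul]
    congr 1
    rw [show g i ^ e i = ((p i).2 : A) from he i]
    exact hp i
  let b : ι → A := fun i => (p i).1 * g i ^ (E - e i)
  have hcong : ∀ i k, ∃ n : ℕ, (g i * g k) ^ n * (g k ^ E * b i - g i ^ E * b k) ∈ I := fun i k => by
    refine exists_pow_mul_mem (B := R₂ i k) ?_
    have h1 := congrArg (r₁ i k) (hrep i)
    have h2 := congrArg (r₂ i k) (hrep k)
    simp only [map_mul, AlgHom.commutes] at h1 h2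
    have : algebraMap A (R₂ i k) (g k ^ E * b i - g i ^ E * b k) =
        algebraMap A (R₂ i k) (g i ^ E * g k ^ E) * (r₁ i k (z i) - r₂ i k (z k)) := by
      simp only [b, map_sub, map_mul] at *
      linear_combination -(algebraMap A (R₂ i k) (g k ^ E)) * h1 + (algebraMap A (R₂ i k) (g i ^ E)) * h2
    rw [this]
    exact Ideal.mul_mem_left _ _ (hz i k)
  choose n hn using hcong
  let L := Finset.univ.sup fun i => Finset.univ.sup (n i)
  let G : ι → A := fun i => g i ^ (E + L)
  let c : ι → A := fun i => g i ^ L * b i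
  have hc : ∀ i k, G k * c i - G i * c k ∈ I := fun i k => by
    have hle : n i k ≤ L := (Finset.le_sup (Finset.mem_univ k)).trans
      (Finset.le_sup (f := fun i => Finset.univ.sup (n i)) (Finset.mem_univ i))
    have := I.mul_mem_left ((g i * g k) ^ (L - n i k)) (hn i k)
    rw [← mul_assoc, ← pow_add, Nat.sub_add_cancel hle] at this
    convert this using 1
    simp only [G, c, pow_add, mul_pow]
    ring
  have hspan : ∀ w : A, w ∈ (Ideal.span (Set.range g)).radical →
      ∃ (m : ℕ) (z' : A), ∀ k, G k * z' - w ^ m * c k ∈ I := fun w hw => by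
    have hle : Ideal.span (Set.range g) ≤ (Ideal.span (Set.range G)).radical := by
      rw [Ideal.span_le]
      rintro _ ⟨i, rfl⟩
      exact ⟨E + L, Ideal.subset_span ⟨i, rfl⟩⟩
    obtain ⟨m, hm⟩ := Ideal.radical_le_radical_iff.2 hle hw
    obtain ⟨α, hα⟩ := (Submodule.mem_span_range_iff_exists_fun A).1 hm
    refine ⟨m, ∑ i, α i * c i, fun k => ?_⟩
    rw [← hα, Finset.mul_sum, Finset.sum_mul, ← Finset.sum_sub_distrib]
    refine I.sum_mem fun i _ => ?_
    have := I.mul_mem_left (α i) (hc i k)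
    convert this using 1
    rw [smul_eq_mul]
    ring
  obtain ⟨m, z₁, h₁⟩ := hspan x hxg
  obtain ⟨m', z₂, h₂⟩ := hspan y hyg
  have hpow : ∀ (j : ℕ) (w : A), x ^ j * w ∈ I → w ∈ I := by
    intro j
    induction j with
    | zero => intro w hw; simpa using hw
    | succ j ih => intro w hw; exact ih w (hx _ (by rwa [← mul_assoc, ← pow_succ']))
  have hy1 : ∀ (j : ℕ) (w v : A), y * w - x ^ j * v ∈ I → ∃ a, w - x ^ j * a ∈ I := by
    intro j
    induction j with
    | zero => intro w v _; exact ⟨w, by simp⟩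
    | succ j ih =>
      intro w v hwv
      obtain ⟨a, ha⟩ := hy w (x ^ j * v) (by rwa [← mul_assoc, ← pow_succ'])
      obtain ⟨a', ha'⟩ := ih a v (hx _ (by
        have := I.sub_mem hwv (I.mul_mem_left y ha)
        convert this using 1
        rw [pow_succ']
        ring))
      refine ⟨a', ?_⟩
      have := I.add_mem ha (I.mul_mem_left x ha')
      convert this using 1
      rw [pow_succ']
      ring
  have hyn : ∀ (l : ℕ) (w v : A), y ^ l * w - x ^ m * v ∈ I → ∃ a, w - x ^ m * a ∈ I := by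
    intro l
    induction l with
    | zero => intro w v h; exact ⟨v, by simpa using h⟩
    | succ l ih =>
      intro w v h
      obtain ⟨a, ha⟩ := ih (y * w) v (by rwa [← mul_assoc, ← pow_succ])
      exact hy1 m w a ha
  have hG : ∀ w : A, (∀ k, G k * w ∈ I) → w ∈ I := fun w hw => by
    refine mem_of_forall_mem R I hx hxg fun i => ?_
    have := Ideal.mem_map_of_mem (algebraMap A (R i)) (hw i)
    rw [map_mul] at this
    exact (Ideal.unit_mul_mem_iff_mem _ (by rw [map_pow]; exact (isUnit_g g R i).pow _)).1 this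
  obtain ⟨a, ha⟩ := hyn m' z₁ z₂ (hG _ fun k => by
    have := I.sub_mem (I.mul_mem_left (y ^ m') (h₁ k)) (I.mul_mem_left (x ^ m) (h₂ k))
    convert this using 1
    ring)
  refine ⟨a, fun i => ?_⟩
  have hk : G i * a - c i ∈ I := hpow m _ (by
    have := I.sub_mem (h₁ i) (I.mul_mem_left (G i) ha)
    convert this using 1
    ring)
  have := Ideal.mem_map_of_mem (algebraMap A (R i)) hk
  rw [map_sub, map_mul] at this
  refine (Ideal.unit_mul_mem_iff_mem _ (show IsUnit (algebraMap A (R i) (G i)) by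
    rw [map_pow]; exact (isUnit_g g R i).pow _)).1 ?_
  have hz' : algebraMap A (R i) (G i) * z i = algebraMap A (R i) (c i) := by
    simp only [G, c, b, pow_add, map_mul] at *
    linear_combination (algebraMap A (R i) (g i ^ L)) * hrep i
  rw [mul_sub, hz']
  have h4 := neg_mem this
  rwa [neg_sub] at h4

end Glue

/-- A line bundle on the punctured spectrum given by units on basic opens, congruent to one modulo `f`. -/
structure Atlas (A : Type u) [CommRing A] [IsLocalRing A] where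
  f : A
  f_mem : f ∈ IsLocalRing.maximalIdeal A
  f_nzd : f ∈ nonZeroDivisors A
  x : A
  y : A
  x_mem : x ∈ IsLocalRing.maximalIdeal A
  y_mem : y ∈ IsLocalRing.maximalIdeal A
  hx : ∀ z, x * z ∈ Ideal.span {f} → z ∈ Ideal.span {f}
  hy : ∀ z w, y * z - x * w ∈ Ideal.span {f} → ∃ a, z - x * a ∈ Ideal.span {f}
  x' : A
  y' : A
  x'_mem : x' ∈ IsLocalRing.maximalIdeal A
  y'_mem : y' ∈ IsLocalRing.maximalIdeal A
  hx' : ∀ z, x' * z = 0 → z = 0
  hy' : ∀ z w, y' * z = x' * w → ∃ a, z = x' * a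
  ι : Type u
  [fin : Fintype ι]
  g : ι → A
  g_mem : ∀ i, g i ∈ IsLocalRing.maximalIdeal A
  hg : ∀ p : Ideal A, p.IsPrime → p ≠ IsLocalRing.maximalIdeal A → ∃ i, g i ∉ p
  R : ι → Type u
  [cR : ∀ i, CommRing (R i)]
  [aR : ∀ i, Algebra A (R i)]
  [lR : ∀ i, IsLocalization.Away (g i) (R i)]
  R₂ : ι → ι → Type u
  [cR₂ : ∀ i k, CommRing (R₂ i k)]
  [aR₂ : ∀ i k, Algebra A (R₂ i k)]
  [lR₂ : ∀ i k, IsLocalization.Away (g i * g k) (R₂ i k)]
  r₁ : ∀ i k, R i →ₐ[A] R₂ i k
  r₂ : ∀ i k, R k →ₐ[A] R₂ i k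
  u : ∀ i k, (R₂ i k)ˣ
  hu : ∀ i k, (u i k : R₂ i k) - 1 ∈ (Ideal.span {f}).map (algebraMap A (R₂ i k))

attribute [instance] Atlas.fin Atlas.cR Atlas.aR Atlas.lR Atlas.cR₂ Atlas.aR₂ Atlas.lR₂

namespace Atlas

variable {A : Type u} [CommRing A] [IsLocalRing A] [IsNoetherianRing A] (D : Atlas A)

/-- Tuples on the charts. -/
abbrev T : Type u := ∀ i, D.R i

/-- Tuples modulo `f`. -/
abbrev J : Ideal D.T := Ideal.span {algebraMap A D.T D.f}

theorem mem_radical {w : A} (hw : w ∈ IsLocalRing.maximalIdeal A) : w ∈ (Ideal.span (Set.range D.g)).radical := by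
  rw [Ideal.radical_eq_sInf, Ideal.mem_sInf]
  rintro p ⟨hle, hp⟩
  by_contra hwp
  obtain ⟨i, hi⟩ := D.hg p hp fun he => hwp (he ▸ hw)
  exact hi (hle (Ideal.subset_span ⟨i, rfl⟩))

theorem reg {B : Type u} [CommRing B] [Algebra A B] (s : A) [IsLocalization.Away s B] (z : B)
    (hz : algebraMap A B D.f * z = 0) : z = 0 := by
  have hf := D.f_nzd
  obtain ⟨⟨a, m⟩, hm⟩ := IsLocalization.surj (Submonoid.powers s) z
  have h0 : algebraMap A B (D.f * a) = 0 := by rw [map_mul, ← hm, ← mul_assoc, hz, zero_mul]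
  obtain ⟨m', hm'⟩ := (IsLocalization.map_eq_zero_iff (Submonoid.powers s) B _).1 h0
  have ha : (m' : A) * a = 0 := (mem_nonZeroDivisors_iff.1 hf).2 _ (by rw [← hm']; ring)
  refine (IsUnit.mul_left_eq_zero (IsLocalization.map_units B m)).1 ?_
  rw [hm, IsLocalization.map_eq_zero_iff (Submonoid.powers s) B]
  exact ⟨m', ha⟩

/-- Sections of the powers of the line bundle. -/
def M (j : ℤ) : Submodule A D.T where
  carrier := {z | ∀ i k, D.r₁ i k (z i) = ((D.u i k) ^ j : (D.R₂ i k)ˣ) * D.r₂ i k (z k)}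
  zero_mem' i k := by rw [Pi.zero_apply, Pi.zero_apply, map_zero, map_zero, mul_zero]
  add_mem' {a b} ha hb i k := by rw [Pi.add_apply, Pi.add_apply, map_add, map_add, ha i k, hb i k]; ring
  smul_mem' c a ha i k := by rw [Pi.smul_apply, Pi.smul_apply, map_smul, map_smul, ha i k, mul_smul_comm]

theorem mul_mem {i j : ℤ} {a b : D.T} (ha : a ∈ D.M i) (hb : b ∈ D.M j) : a * b ∈ D.M (i + j) := by
  intro k l
  show D.r₁ k l (a k * b k) = _ * D.r₂ k l (a l * b l)
  rw [map_mul, map_mul, ha k l, hb k l, zpow_add, Units.val_mul]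
  ring

theorem algebraMap_mem (a : A) : algebraMap A D.T a ∈ D.M 0 := fun i k => by
  show D.r₁ i k (algebraMap A (D.R i) a) = _ * D.r₂ i k (algebraMap A (D.R k) a)
  simp

theorem pow_mem (n : ℕ) {j : ℤ} {z : D.T} (hz : z ∈ D.M j) : z ^ n ∈ D.M (n * j) := by
  induction n with
  | zero => simpa using D.algebraMap_mem 1
  | succ n ih => rw [pow_succ, show ((n + 1 : ℕ) : ℤ) * j = n * j + j by push_cast; ring]; exact D.mul_mem ih hz

theorem zpow_congr_one (j : ℤ) (i k : D.ι) :
    (((D.u i k) ^ j : (D.R₂ i k)ˣ) : D.R₂ i k) - 1 ∈ (Ideal.span {D.f}).map (algebraMap A (D.R₂ i k)) := by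
  rw [← Ideal.Quotient.eq_zero_iff_mem, map_sub, sub_eq_zero, map_one]
  let φ := Units.map (Ideal.Quotient.mk ((Ideal.span {D.f}).map (algebraMap A (D.R₂ i k)))).toMonoidHom
  have h1 : φ (D.u i k) = 1 := by
    ext
    show Ideal.Quotient.mk _ (D.u i k : D.R₂ i k) = 1
    rw [← sub_eq_zero, ← map_one (Ideal.Quotient.mk ((Ideal.span {D.f}).map (algebraMap A (D.R₂ i k)))), ← map_sub]
    exact Ideal.Quotient.eq_zero_iff_mem.2 (D.hu i k)
  have h2 := map_zpow φ (D.u i k) j
  rw [h1, one_zpow] at h2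
  exact congrArg Units.val h2

theorem mem_ker_of_mem {a : A} (h : ∀ i, algebraMap A (D.R i) a ∈ (Ideal.span {D.f}).map (algebraMap A (D.R i))) :
    a ∈ Ideal.span {D.f} :=
  mem_of_forall_mem D.R _ D.hx (D.mem_radical D.x_mem) h

theorem exists_scalar_mod {j : ℤ} {z : D.T} (hz : z ∈ D.M j) :
    ∃ a, Ideal.Quotient.mk D.J z = Ideal.Quotient.mk D.J (algebraMap A D.T a) := by
  obtain ⟨a, ha⟩ := exists_glue_mod D.R D.R₂ D.r₁ D.r₂ (Ideal.span {D.f}) D.hx D.hy
    (D.mem_radical D.x_mem) (D.mem_radical D.y_mem) z fun i k => by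
    rw [hz i k, show (((D.u i k) ^ j : (D.R₂ i k)ˣ) : D.R₂ i k) * D.r₂ i k (z k) - D.r₂ i k (z k) =
      ((((D.u i k) ^ j : (D.R₂ i k)ˣ) : D.R₂ i k) - 1) * D.r₂ i k (z k) by ring]
    exact Ideal.mul_mem_right _ _ (D.zpow_congr_one j i k)
  refine ⟨a, ?_⟩
  rw [Ideal.Quotient.eq]
  choose q hq using fun i => Ideal.mem_span_singleton'.1 (by
    have := ha i
    rwa [Ideal.map_span, Set.image_singleton] at this)
  exact Ideal.mem_span_singleton'.2 ⟨q, funext fun i => hq i⟩

theorem exists_scalar {z : D.T} (hz : z ∈ D.M 0) : ∃ a, algebraMap A D.T a = z := by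
  obtain ⟨a, ha⟩ := exists_glue_mod D.R D.R₂ D.r₁ D.r₂ (⊥ : Ideal A) (x := D.x') (y := D.y')
    (fun w hw => D.hx' w hw) (fun w w' hw => (D.hy' w w' (sub_eq_zero.1 hw)).imp fun a ha => by simp [ha])
    (D.mem_radical D.x'_mem) (D.mem_radical D.y'_mem) z fun i k => by simp [hz i k]
  refine ⟨a, funext fun i => ?_⟩
  have := ha i
  rw [Ideal.map_bot, Ideal.mem_bot, sub_eq_zero] at this
  exact this.symm

theorem smul_eq_zero {z : D.T} (hz : D.f • z = 0) : z = 0 := funext fun i =>
  D.reg (D.g i) (z i) (by rw [← Algebra.smul_def]; exact congrFun hz i)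

theorem exists_eq_smul {j : ℤ} {z : D.T} (hz : z ∈ D.M j) (h0 : Ideal.Quotient.mk D.J z = 0) :
    ∃ w ∈ D.M j, z = D.f • w := by
  obtain ⟨q, hq⟩ := Ideal.mem_span_singleton'.1 (Ideal.Quotient.eq_zero_iff_mem.1 h0)
  have hzq : z = D.f • q := by rw [← hq, Algebra.smul_def, mul_comm]
  refine ⟨q, fun i k => sub_eq_zero.1 (D.reg (D.g i * D.g k) _ ?_), hzq⟩
  have := hz i k
  rw [hzq] at this
  change D.r₁ i k (D.f • q i) = _ * D.r₂ i k (D.f • q k) at this
  rw [map_smul, map_smul, Algebra.smul_def, Algebra.smul_def] at this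
  linear_combination this

/-- Elements of degree one and minus one which are units on their chart. -/
structure Gens where
  t : D.ι → D.T
  c : D.ι → D.T
  t_mem : ∀ l, t l ∈ D.M 1
  c_mem : ∀ l, c l ∈ D.M (-1)
  t_unit : ∀ l, IsUnit (t l l)
  c_unit : ∀ l, IsUnit (c l l)

variable {D}

theorem Gens.exists_unit_mem (G : D.Gens) (j : ℤ) (l : D.ι) : ∃ q ∈ D.M j, IsUnit (q l) := by
  rcases Int.natAbs_eq j with hj | hj
  · exact ⟨G.t l ^ j.natAbs, by
      have := D.pow_mem j.natAbs (G.t_mem l)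
      rwa [mul_one, ← hj] at this, (G.t_unit l).pow _⟩
  · exact ⟨G.c l ^ j.natAbs, by
      have := D.pow_mem j.natAbs (G.c_mem l)
      rwa [mul_neg_one, ← hj] at this, (G.c_unit l).pow _⟩

theorem Gens.fg (G : D.Gens) (j : ℤ) : (D.M j).FG := by
  choose q hq hqu using G.exists_unit_mem (-j)
  let φ : ↥(D.M j) →ₗ[A] (D.ι → D.T) := (LinearMap.pi fun l => LinearMap.mulLeft A (q l)) ∘ₗ (D.M j).subtype
  have hφ : Function.Injective φ := fun z w h => Subtype.ext (funext fun l => by
    have := congrFun (congrFun h l) l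
    exact (hqu l).mul_right_injective this)
  let Φ : (D.ι → A) →ₗ[A] (D.ι → D.T) := LinearMap.pi fun l => Algebra.linearMap A D.T ∘ₗ LinearMap.proj l
  have hle' : LinearMap.range φ ≤ LinearMap.range Φ := by
    rintro _ ⟨z, rfl⟩
    choose a ha using fun l => D.exists_scalar (z := q l * z.1) (by simpa using D.mul_mem (hq l) z.2)
    exact ⟨a, funext ha⟩
  haveI : IsNoetherian A ↥(LinearMap.range Φ) := isNoetherian_range Φ
  have : (LinearMap.range φ).FG := by
    have h := IsNoetherian.noetherian ((LinearMap.range φ).comap (LinearMap.range Φ).subtype)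
    have h2 := h.map (LinearMap.range Φ).subtype
    rwa [Submodule.map_comap_subtype, inf_eq_right.2 hle'] at h2
  rw [← Submodule.fg_top, ← Module.finite_def]
  haveI : Module.Finite A ↥(LinearMap.range φ) := Module.Finite.iff_fg.2 this
  exact Module.Finite.equiv (LinearEquiv.ofInjective φ hφ).symm

/-- The product of opposite generators as a scalar. -/
def Gens.a (G : D.Gens) (l : D.ι) : A :=
  (D.exists_scalar (z := G.c l * G.t l) (by simpa using D.mul_mem (G.c_mem l) (G.t_mem l))).choose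

theorem Gens.a_eq (G : D.Gens) (l : D.ι) : algebraMap A D.T (G.a l) = G.c l * G.t l :=
  (D.exists_scalar (z := G.c l * G.t l) (by simpa using D.mul_mem (G.c_mem l) (G.t_mem l))).choose_spec

theorem Gens.primary (G : D.Gens) (p : Ideal A) (hp : p.IsPrime) (hne : p ≠ IsLocalRing.maximalIdeal A) :
    ∃ i, G.a i ∉ p := by
  obtain ⟨i, hi⟩ := D.hg p hp hne
  refine ⟨i, not_mem_of_isUnit D.g D.R (i := i) ?_ hp hi⟩
  rw [show algebraMap A (D.R i) (G.a i) = G.c i i * G.t i i from congrFun (G.a_eq i) i]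
  exact (G.c_unit i).mul (G.t_unit i)

/-- The setting of the Koszul argument. -/
def Gens.setting (G : D.Gens) : Setting A D.T (D.T ⧸ D.J) where
  π := Ideal.Quotient.mkₐ A D.J
  f := D.f
  f_mem := D.f_mem
  M := D.M
  hmul := D.mul_mem
  hone := D.algebraMap_mem
  hzero _ := D.exists_scalar
  hrange hz := (D.exists_scalar_mod hz).imp fun _ ha => ha.symm
  hf _ := D.smul_eq_zero
  hf₀ := Ideal.Quotient.eq_zero_iff_mem.2 (Ideal.mem_span_singleton_self _)
  hker := D.exists_eq_smul
  hfg := G.fg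
  ι := D.ι
  s := Finset.univ
  t := G.t
  c := G.c
  a := G.a
  t_mem := G.t_mem
  c_mem := G.c_mem
  a_eq := G.a_eq
  primary p hp hne := (G.primary p hp hne).imp fun i hi => ⟨Finset.mem_univ i, hi⟩

/-- When the first colength vanishes, there is a section which is a unit on every chart. -/
theorem Gens.exists_unit_section (G : D.Gens) (h1 : G.setting.colen 1 = 0) : ∃ z ∈ D.M 1, ∀ i, IsUnit (z i) := by
  obtain ⟨z, hz, -, hgen⟩ := G.setting.exists_generator h1
  refine ⟨z, hz, fun i => ?_⟩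
  obtain ⟨b, hb⟩ := hgen (G.t i) (G.t_mem i)
  have hbi := G.t_unit i
  rw [hb, Pi.smul_apply, Algebra.smul_def] at hbi
  exact isUnit_of_mul_isUnit_right hbi

variable (D)

/-- A torsion line bundle which is trivial modulo `f` is trivial. -/
theorem exists_unit_section_of_torsion (N : ℕ) (hN : 0 < N) (t : D.ι → D.T) (ht : ∀ l, t l ∈ D.M 1)
    (htu : ∀ l, IsUnit (t l l)) (v : D.T) (hvu : ∀ i, IsUnit (v i))
    (hv : ∀ i k, D.r₁ i k (v i) * (D.u i k : D.R₂ i k) ^ N = D.r₂ i k (v k)) :
    ∃ z ∈ D.M 1, ∀ i, IsUnit (z i) := by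
  have hvm : v ∈ D.M (-(N : ℤ)) := fun i k => by
    rw [zpow_neg, zpow_natCast, ← hv i k, ← Units.val_pow_eq_pow_val, mul_comm (D.r₁ i k (v i)),
      ← mul_assoc, Units.inv_mul, one_mul]
  choose v' hv' using fun i => (hvu i).exists_right_inv
  have hvinv : v' ∈ D.M (N : ℤ) := fun i k => by
    have h1 : D.r₁ i k (v i) * D.r₁ i k (v' i) = 1 := by rw [← map_mul, hv' i, map_one]
    have h2 : D.r₂ i k (v k) * D.r₂ i k (v' k) = 1 := by rw [← map_mul, hv' k, map_one]
    rw [zpow_natCast, Units.val_pow_eq_pow_val]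
    calc D.r₁ i k (v' i) = D.r₁ i k (v' i) * (D.r₂ i k (v k) * D.r₂ i k (v' k)) := by rw [h2, mul_one]
      _ = (D.r₁ i k (v i) * D.r₁ i k (v' i)) * ((D.u i k : D.R₂ i k) ^ N * D.r₂ i k (v' k)) := by
        rw [← hv i k]; ring
      _ = _ := by rw [h1, one_mul]
  obtain ⟨a, ha⟩ := D.exists_scalar_mod hvm
  obtain ⟨b, hb⟩ := D.exists_scalar_mod hvinv
  have hab : IsUnit a := by
    have h1 : Ideal.Quotient.mk D.J (algebraMap A D.T (a * b - 1)) = 0 := by
      rw [map_sub, map_mul, map_sub, map_mul, ← ha, ← hb, ← map_mul, ← map_sub, map_one,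
        show v * v' = 1 from funext hv', sub_self, map_zero]
    have h2 : a * b - 1 ∈ Ideal.span {D.f} := D.mem_ker_of_mem fun i => by
      obtain ⟨q, hq⟩ := Ideal.mem_span_singleton'.1 (Ideal.Quotient.eq_zero_iff_mem.1 h1)
      rw [Ideal.map_span, Set.image_singleton]
      exact Ideal.mem_span_singleton'.2 ⟨q i, congrFun hq i⟩
    have h3 : IsUnit (a * b) := by
      by_contra hn
      exact (IsLocalRing.maximalIdeal.isMaximal A).ne_top ((Ideal.eq_top_iff_one _).2 (by
        have := (IsLocalRing.maximalIdeal A).sub_mem ((IsLocalRing.mem_maximalIdeal _).2 hn)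
          ((Ideal.span_singleton_le_iff_mem _).2 D.f_mem h2)
        simpa using this))
    exact isUnit_of_mul_isUnit_left h3
  obtain ⟨a', ha'⟩ := hab.exists_left_inv
  have hvv : a' • v ∈ D.M (-(N : ℤ)) := (D.M _).smul_mem _ hvm
  let G : D.Gens :=
    { t := t
      c := fun l => t l ^ (N - 1) * (a' • v)
      t_mem := ht
      c_mem := fun l => by
        have := D.mul_mem (D.pow_mem (N - 1) (ht l)) hvv
        rwa [show ((N - 1 : ℕ) : ℤ) * 1 + -(N : ℤ) = -1 by omega] at this
      t_unit := htu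
      c_unit := fun l => by
        show IsUnit (t l l ^ (N - 1) * (a' • v l))
        rw [Algebra.smul_def]
        exact ((htu l).pow _).mul (((IsUnit.of_mul_eq_one _ ha').map _).mul (hvu l)) }
  refine G.exists_unit_section (G.setting.colen_one_of_periodic hN
    (G.setting.periodic hvv ((D.M _).smul_mem a hvinv) ?_ ?_))
  · show Ideal.Quotient.mk D.J (a' • v) = 1
    rw [Algebra.smul_def, map_mul, ha, ← map_mul, ← map_mul, ha', map_one, map_one]
  · show a • v' * (a' • v) = 1
    rw [smul_mul_smul_comm, mul_comm a a', ha', one_smul, mul_comm]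
    exact funext hv'

end Atlas

end Groth.L20.TorsPic
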