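import Groth.Agent.L20.TorsPic.RelLength
import Mathlib.Algebra.Module.LinearMap.End

/-!
# Cokernels of the reduction of a two-periodic complex modulo a regular element
-/

set_option autoImplicit false
set_option linter.style.haveILetI false
universe u

noncomputable section

namespace Groth.L20.TorsPic

variable {A : Type u} [CommRing A] {V W V₀ W₀ : Type u}
  [AddCommGroup V] [Module A V] [AddCommGroup W] [Module A W]
  [AddCommGroup V₀] [Module A V₀] [AddCommGroup W₀] [Module A W₀]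
  {X : Submodule A V} {Y : Submodule A W} {X₀ : Submodule A V₀} {Y₀ : Submodule A W₀}
  {d : V →ₗ[A] W} {d' : W →ₗ[A] V} {d₀ : V₀ →ₗ[A] W₀} {d₀' : W₀ →ₗ[A] V₀}
  {φ : V →ₗ[A] V₀} {ψ : W →ₗ[A] W₀}

/-- Elements of which the multiple by `f` is a boundary. -/
def sat (f : A) (X : Submodule A V) (B : Submodule A V) : Submodule A V :=
  X ⊓ B.comap (LinearMap.lsmul A V f)

theorem rl_quot_eq_sat (f : A) {Z B : Submodule A V} (hBZ : B ≤ Z) (hinj : ∀ z ∈ Z, f • z = 0 → z = 0)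
    (hfin : rl Z B ≠ ⊤) : rl Z (B ⊔ Z.map (LinearMap.lsmul A V f)) = rl (sat f Z B) B := by
  let m : V →ₗ[A] V := LinearMap.lsmul A V f
  have hm : ∀ z, m z = f • z := fun _ => rfl
  have hfZ : Z.map m ≤ Z := by
    rintro _ ⟨z, hz, rfl⟩
    exact Z.smul_mem f hz
  have hBs : B ≤ sat f Z B := le_inf hBZ fun b hb => B.smul_mem f hb
  have hsZ : sat f Z B ≤ Z := inf_le_left
  have h1 := rl_add (le_sup_left : B ≤ B ⊔ Z.map m) (sup_le hBZ hfZ)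
  have h2 := rl_add hBs hsZ
  have h3 : rl (B ⊔ Z.map m) B = rl (Z.map m) ((sat f Z B).map m) := by
    rw [sup_comm, rl_sup]
    refine rl_congr_right (le_antisymm ?_ ?_)
    · rintro _ ⟨⟨z, hz, rfl⟩, -, hb⟩
      exact ⟨⟨z, hz, rfl⟩, z, ⟨hz, hb⟩, rfl⟩
    · rintro _ ⟨hfz, z, ⟨-, hb⟩, rfl⟩
      exact ⟨hfz, hfz, hb⟩
  have h4 : rl (Z.map m) ((sat f Z B).map m) = rl Z (sat f Z B) :=
    rl_map_injOn m hsZ fun z hz => by
      rw [hinj z hz.1 (LinearMap.mem_ker.1 hz.2 : _)]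
      exact Submodule.zero_mem _
  rw [h3, h4] at h1
  have hk : rl Z (sat f Z B) ≠ ⊤ := fun he => hfin (by rw [h2, he, top_add])
  exact WithTop.add_right_cancel hk (h1.symm.trans (h2.trans (add_comm _ _)))

variable (f : A) (hd : ∀ x ∈ X, d x ∈ Y) (hd' : ∀ y ∈ Y, d' y ∈ X) (hdd : ∀ x, d' (d x) = 0)
  (hdd' : ∀ y, d (d' y) = 0) (hc : ∀ x, ψ (d x) = d₀ (φ x)) (hc' : ∀ y, φ (d' y) = d₀' (ψ y))
  (hfX : ∀ x ∈ X, f • x = 0 → x = 0) (hfY : ∀ y ∈ Y, f • y = 0 → y = 0) (hf₀ : ∀ x ∈ X₀, f • x = 0)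
  (hf₀' : ∀ y ∈ Y₀, f • y = 0)
  (hkerX : ∀ x ∈ X, φ x = 0 → ∃ x' ∈ X, x = f • x') (hkerY : ∀ y ∈ Y, ψ y = 0 → ∃ y' ∈ Y, y = f • y')
  (hφ : ∀ x ∈ X, φ x ∈ X₀) (hψ : ∀ y ∈ Y, ψ y ∈ Y₀)
  (hP : rl (X ⊓ LinearMap.ker d) (Y.map d') ≠ ⊤)

include hd hd' hdd hdd' hc hc' hfX hfY hf₀ hf₀' hkerX hkerY hφ hψ hP in
/-- The homology of the image of the complex is made of the torsion of the homology. -/
theorem rl_image_homology :
    rl (X.map φ ⊓ LinearMap.ker d₀) ((Y.map ψ).map d₀') =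
      rl (sat f (Y ⊓ LinearMap.ker d') (X.map d)) (X.map d) +
        rl (sat f (X ⊓ LinearMap.ker d) (Y.map d')) (Y.map d') := by
  let Z : Submodule A V := X ⊓ LinearMap.ker d
  let B : Submodule A V := Y.map d'
  let fX : Submodule A V := X.map (LinearMap.lsmul A V f)
  let Zt : Submodule A V := X ⊓ LinearMap.ker (ψ ∘ₗ d)
  have hfXX : fX ≤ X := by
    rintro _ ⟨x, hx, rfl⟩
    exact X.smul_mem f hx
  have hBX : B ≤ X := by
    rintro _ ⟨y, hy, rfl⟩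
    exact hd' y hy
  have hBZ : B ≤ Z := le_inf hBX (by rintro _ ⟨y, -, rfl⟩; exact hdd' y)
  have hfXZt : fX ≤ Zt := le_inf hfXX (by
    rintro _ ⟨x, hx, rfl⟩
    show ψ (d (f • x)) = 0
    rw [map_smul, map_smul, hf₀' _ (hψ _ (hd x hx))])
  have hZZt : Z ≤ Zt := le_inf inf_le_left fun x hx => by
    show ψ (d x) = 0
    rw [LinearMap.mem_ker.1 hx.2, map_zero]
  have hle : B ⊔ fX ≤ Z ⊔ fX := sup_le_sup_right hBZ _
  have hle' : Z ⊔ fX ≤ Zt := sup_le hZZt hfXZt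
  -- the image
  have e1 : Zt.map φ = X.map φ ⊓ LinearMap.ker d₀ := by
    refine le_antisymm ?_ ?_
    · rintro _ ⟨x, hx, rfl⟩
      exact ⟨⟨x, hx.1, rfl⟩, ((hc x).symm.trans (LinearMap.mem_ker.1 hx.2) : _)⟩
    · rintro _ ⟨⟨x, hx, rfl⟩, hx0⟩
      exact ⟨x, ⟨hx, ((hc x).trans (LinearMap.mem_ker.1 hx0) : _)⟩, rfl⟩
  have e2 : (B ⊔ fX).map φ = (Y.map ψ).map d₀' := by
    rw [Submodule.map_sup, show fX.map φ = ⊥ from by
      rw [Submodule.eq_bot_iff]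
      rintro _ ⟨_, ⟨x, hx, rfl⟩, rfl⟩
      show φ (f • x) = 0
      rw [map_smul, hf₀ _ (hφ x hx)], sup_bot_eq]
    show (Y.map d').map φ = _
    rw [← Submodule.map_comp, ← Submodule.map_comp, show φ ∘ₗ d' = d₀' ∘ₗ ψ from LinearMap.ext hc']
  have e3 : rl (X.map φ ⊓ LinearMap.ker d₀) ((Y.map ψ).map d₀') = rl Zt (Z ⊔ fX) + rl (Z ⊔ fX) (B ⊔ fX) := by
    rw [← e1, ← e2, rl_map_injOn φ (hle.trans hle') ?_, rl_add hle hle']
    intro x hx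
    obtain ⟨x', hx', rfl⟩ := hkerX x hx.1.1 hx.2
    exact Submodule.mem_sup_right ⟨x', hx', rfl⟩
  -- the lifted cycles
  have e4 : rl Zt (Z ⊔ fX) = rl (sat f (Y ⊓ LinearMap.ker d') (X.map d)) (X.map d) := by
    let m : W →ₗ[A] W := LinearMap.lsmul A W f
    let S : Submodule A W := sat f (Y ⊓ LinearMap.ker d') (X.map d)
    have a1 : Zt.map d = S.map m := by
      refine le_antisymm ?_ ?_
      · rintro _ ⟨x, hx, rfl⟩
        obtain ⟨y, hy, he⟩ := hkerY _ (hd x hx.1) hx.2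
        refine ⟨y, ⟨⟨hy, hfX _ (hd' y hy) ?_⟩, ⟨x, hx.1, he⟩⟩, he.symm⟩
        rw [← map_smul, ← he, hdd]
      · rintro _ ⟨y, ⟨⟨hy, -⟩, x, hx, hxy⟩, rfl⟩
        refine ⟨x, ⟨hx, ?_⟩, hxy⟩
        show ψ (d x) = 0
        rw [show d x = f • y from hxy, map_smul, hf₀' _ (hψ y hy)]
    have a2 : (Z ⊔ fX).map d = (X.map d).map m := by
      rw [Submodule.map_sup, show Z.map d = ⊥ from by
        rw [Submodule.eq_bot_iff]
        rintro _ ⟨x, hx, rfl⟩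
        exact hx.2, bot_sup_eq]
      show (X.map _).map d = _
      rw [← Submodule.map_comp, ← Submodule.map_comp]
      exact congrArg (fun g => X.map g) (LinearMap.ext fun x => map_smul d f x)
    rw [rl_split d hle', a1, a2, rl_map_injOn m ?_ ?_,
      rl_eq_zero (show Zt ⊓ LinearMap.ker d ≤ (Z ⊔ fX) ⊓ LinearMap.ker d from
        fun x hx => ⟨Submodule.mem_sup_left ⟨hx.1.1, hx.2⟩, hx.2⟩), add_zero]
    · rintro _ ⟨x, hx, rfl⟩
      exact ⟨⟨hd x hx, hdd x⟩, ⟨f • x, X.smul_mem f hx, map_smul d f x⟩⟩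
    · intro y hy
      rw [hfY y hy.1.1.1 (LinearMap.mem_ker.1 hy.2 : _)]
      exact Submodule.zero_mem _
  -- the lifted boundaries
  have e5 : rl (Z ⊔ fX) (B ⊔ fX) = rl (sat f Z B) B := by
    have a : Z ⊔ fX = Z ⊔ (B ⊔ fX) := by rw [← sup_assoc, sup_eq_left.2 hBZ]
    rw [a, rl_sup, ← rl_quot_eq_sat f hBZ (fun z hz h => hfX z hz.1 h) hP]
    refine rl_congr_right (le_antisymm ?_ ?_)
    · rintro x ⟨hxZ, -, hx⟩
      refine ⟨hxZ, ?_⟩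
      obtain ⟨b, hb, _, ⟨x', hx', rfl⟩, rfl⟩ := Submodule.mem_sup.1 hx
      refine Submodule.add_mem_sup hb ⟨x', ⟨hx', ?_⟩, rfl⟩
      have h0 : d (f • x') = 0 := by
        have := LinearMap.mem_ker.1 hxZ.2
        rwa [map_add, LinearMap.mem_ker.1 (hBZ hb).2, zero_add] at this
      exact hfY _ (hd x' hx') (by rw [← map_smul, h0])
    · rintro x ⟨hxZ, hx⟩
      exact ⟨hxZ, hxZ, (sup_le le_sup_left ((Submodule.map_mono inf_le_left).trans le_sup_right) :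
        B ⊔ Z.map (LinearMap.lsmul A V f) ≤ B ⊔ fX) hx⟩
  rw [e3, e4, e5]

/-- Two ways of filtering. -/
theorem rl_two_ways (hd₀' : ∀ y ∈ Y₀, d₀' y ∈ X₀) (hdd₀' : ∀ y, d₀ (d₀' y) = 0)
    {X₁ : Submodule A V₀} {Y₁ : Submodule A W₀} (hX₁ : X₁ ≤ X₀) (hY₁ : Y₁ ≤ Y₀) (h₁' : ∀ y ∈ Y₁, d₀' y ∈ X₁) :
    rl (X₀ ⊓ LinearMap.ker d₀) (Y₀.map d₀') + rl (Y₀.map d₀') (Y₁.map d₀') =
      rl (X₀ ⊓ LinearMap.ker d₀) (X₁ ⊓ LinearMap.ker d₀) + rl (X₁ ⊓ LinearMap.ker d₀) (Y₁.map d₀') := by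
  rw [← rl_add (Submodule.map_mono hY₁) ?_, ← rl_add ?_ (inf_le_inf_right _ hX₁)]
  · rintro _ ⟨y, hy, rfl⟩
    exact ⟨h₁' y hy, hdd₀' y⟩
  · rintro _ ⟨y, hy, rfl⟩
    exact ⟨hd₀' y hy, hdd₀' y⟩

end Groth.L20.TorsPic
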