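import Mathlib.Algebra.Group.ForwardDiff
import Mathlib.Algebra.BigOperators.Intervals
import Mathlib.Tactic.LinearCombination

/-!
# Periodic sequences killed by an iterated difference are constant
-/

set_option autoImplicit false

namespace Groth.L20.TorsPic

/-- The backward difference used for Koszul complexes. -/
def diff (g : ℤ → ℤ) : ℤ → ℤ := fun j => g j - g (j + 1)

theorem const_of_diff_const {g : ℤ → ℤ} {N : ℕ} (hN : 0 < N) (hper : ∀ j, g (j - N) = g j)
    (hc : ∀ j, diff g j = diff g 0) : ∀ j, diff g j = 0 := by
  have h : ∀ k : ℕ, g 0 - g (k : ℤ) = k * diff g 0 := by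
    intro k
    induction k with
    | zero => simp
    | succ k ih =>
      have := hc (k : ℤ)
      simp only [diff, zero_add] at this ih ⊢
      push_cast
      linear_combination ih + this
  have h0 := h N
  rw [← hper (N : ℤ), sub_self, sub_self] at h0
  rcases mul_eq_zero.1 h0.symm with h1 | h1
  · omega
  · exact fun j => (hc j).trans h1

theorem periodic_diff {g : ℤ → ℤ} {N : ℕ} (hper : ∀ j, g (j - N) = g j) (j : ℤ) :
    diff g (j - N) = diff g j := by
  simp only [diff]
  rw [show j - N + 1 = j + 1 - N by ring, hper, hper]

theorem diff_eq_zero_of_iterate {N : ℕ} (hN : 0 < N) : ∀ (r : ℕ) (g : ℤ → ℤ), (∀ j, g (j - N) = g j) →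
    (∀ j, diff^[r + 1] g j = 0) → ∀ j, diff g j = 0
  | 0, g, _, h => h
  | r + 1, g, hper, h => by
    have h1 := diff_eq_zero_of_iterate hN r (diff g) (periodic_diff hper) (by
      intro j
      have := h j
      rwa [Function.iterate_succ_apply] at this)
    refine const_of_diff_const hN hper fun j => ?_
    induction j using Int.induction_on with
    | zero => rfl
    | succ k ih =>
      have := h1 (k : ℤ)
      simp only [diff] at this ih ⊢
      linarith
    | pred k ih =>
      have := h1 (-(k : ℤ) - 1)
      simp only [diff, sub_add_cancel] at this ih ⊢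
      linarith

theorem eq_of_iterate {g : ℤ → ℤ} {N r : ℕ} (hN : 0 < N) (hper : ∀ j, g (j - N) = g j)
    (h : ∀ j, diff^[r + 1] g j = 0) : g 1 = g 0 := by
  have := diff_eq_zero_of_iterate hN r g hper h 0
  simp only [diff, zero_add] at this
  linarith

end Groth.L20.TorsPic
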