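import Groth.Agent.L20.TorsPic.Koszul
import Groth.Agent.L20.TorsPic.Compare
import Groth.Agent.L20.TorsPic.Periodic
import Mathlib.RingTheory.Finiteness.Prod
import Mathlib.RingTheory.Nakayama

/-!
# The reduction of a periodic graded family of rank one modules is surjective in degree one
-/

set_option autoImplicit false
set_option linter.style.haveILetI false
universe u

noncomputable section

namespace Groth.L20.TorsPic

variable {A T T₀ : Type u} [CommRing A] [IsLocalRing A] [IsNoetherianRing A]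
  [CommRing T] [Algebra A T] [CommRing T₀] [Algebra A T₀]

/-- The algebraic data of a torsion line bundle, trivial modulo `f`. -/
structure Setting (A T T₀ : Type u) [CommRing A] [IsLocalRing A] [CommRing T] [Algebra A T] [CommRing T₀]
    [Algebra A T₀] where
  π : T →ₐ[A] T₀
  f : A
  f_mem : f ∈ IsLocalRing.maximalIdeal A
  M : ℤ → Submodule A T
  hmul : ∀ {i j x y}, x ∈ M i → y ∈ M j → x * y ∈ M (i + j)
  hone : ∀ a : A, algebraMap A T a ∈ M 0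
  hzero : ∀ x ∈ M 0, ∃ a : A, algebraMap A T a = x
  hrange : ∀ {j x}, x ∈ M j → ∃ a : A, algebraMap A T₀ a = π x
  hf : ∀ x : T, f • x = 0 → x = 0
  hf₀ : algebraMap A T₀ f = 0
  hker : ∀ {j x}, x ∈ M j → π x = 0 → ∃ y ∈ M j, x = f • y
  hfg : ∀ j, (M j).FG
  ι : Type u
  s : Finset ι
  t : ι → T
  c : ι → T
  a : ι → A
  t_mem : ∀ i, t i ∈ M 1
  c_mem : ∀ i, c i ∈ M (-1)
  a_eq : ∀ i, algebraMap A T (a i) = c i * t i
  primary : ∀ p : Ideal A, p.IsPrime → p ≠ IsLocalRing.maximalIdeal A → ∃ i ∈ s, a i ∉ p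

namespace Setting

variable (S : Setting A T T₀)

/-- The constant family of scalars downstairs. -/
def M₀ (_ : Setting A T T₀) : ℤ → Submodule A T₀ := fun _ => LinearMap.range (Algebra.linearMap A T₀)

theorem hmul₀ {i j : ℤ} {x y : T₀} (hx : x ∈ S.M₀ i) (hy : y ∈ S.M₀ j) : x * y ∈ S.M₀ (i + j) := by
  obtain ⟨a, rfl⟩ := hx
  obtain ⟨b, rfl⟩ := hy
  exact ⟨a * b, map_mul (algebraMap A T₀) a b⟩

theorem mem₀ {j : ℤ} {x : T} (hx : x ∈ S.M j) (i : ℤ) : S.π x ∈ S.M₀ i := by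
  obtain ⟨a, ha⟩ := S.hrange hx
  exact ⟨a, ha⟩

/-- The colength of the image in degree `j`. -/
def colen (j : ℤ) : ℕ∞ := rl (S.M₀ 0) ((S.M j).map S.π.toLinearMap)

/-- Invariants of the iterated cones. -/
structure Good {C : Cx A S.M} {C₀ : Cx A S.M₀} (φ : CxHom C C₀ S.π) (g : ℤ → ℤ) : Prop where
  fgP : ∀ j, (C.PD j).FG
  fgQ : ∀ j, (C.QD j).FG
  fgP₀ : ∀ j, (C₀.PD j).FG
  fgQ₀ : ∀ j, (C₀.QD j).FG
  kerP : ∀ {j p}, p ∈ C.PD j → φ.onP p = 0 → ∃ p' ∈ C.PD j, p = S.f • p'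
  kerQ : ∀ {j q}, q ∈ C.QD j → φ.onQ q = 0 → ∃ q' ∈ C.QD j, q = S.f • q'
  injP : ∀ p : C.P, S.f • p = 0 → p = 0
  injQ : ∀ q : C.Q, S.f • q = 0 → q = 0
  mapsP : ∀ {j p}, p ∈ C.PD j → φ.onP p ∈ C₀.PD j
  mapsQ : ∀ {j q}, q ∈ C.QD j → φ.onQ q ∈ C₀.QD j
  constP : ∀ j, C₀.PD j = C₀.PD 0
  constQ : ∀ j, C₀.QD j = C₀.QD 0
  finP : ∀ j, rl (C₀.PD j) ((C.PD j).map φ.onP) ≠ ⊤
  finQ : ∀ j, rl (C₀.QD j) ((C.QD j).map φ.onQ) ≠ ⊤
  eq : ∀ j, g j = (rl (C₀.PD j) ((C.PD j).map φ.onP)).toNat - ((rl (C₀.QD j) ((C.QD j).map φ.onQ)).toNat : ℤ)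

theorem exists_pow_le (I : Ideal A) (h : ∀ i ∈ S.s, ∃ e : ℕ, S.a i ^ e ∈ I) :
    ∃ k : ℕ, IsLocalRing.maximalIdeal A ^ k ≤ I := by
  by_cases htop : I = ⊤
  · exact ⟨0, htop ▸ le_top⟩
  refine Ideal.exists_pow_le_of_le_radical_of_fg ?_ (IsNoetherian.noetherian _)
  rw [Ideal.radical_eq_sInf]
  refine le_sInf fun q ⟨hle, hq⟩ => ?_
  by_contra hne
  obtain ⟨i, hi, hiq⟩ := S.primary q hq fun he => hne (he ▸ le_rfl)
  obtain ⟨e, he⟩ := h i hi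
  exact hiq (hq.mem_of_pow_mem e (hle he))

theorem colen_ne_top (j : ℤ) : S.colen j ≠ ⊤ := by
  let I : Ideal A := ((S.M j).map S.π.toLinearMap).colon (S.M₀ 0 : Set T₀)
  obtain ⟨k, hk⟩ := S.exists_pow_le I fun i _ => ⟨j.natAbs, Submodule.mem_colon.2 fun x hx => by
    obtain ⟨b, rfl⟩ := hx
    obtain ⟨ct, hct⟩ := S.hrange (S.c_mem i)
    obtain ⟨tt, htt⟩ := S.hrange (S.t_mem i)
    have key : ∀ (n : ℕ) (z : T) (l : ℤ), z ∈ S.M l → z ^ n ∈ S.M (n * l) := by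
      intro n z l hz
      induction n with
      | zero => simpa using S.hone 1
      | succ n ih => rw [pow_succ, show ((n + 1 : ℕ) : ℤ) * l = n * l + l by push_cast; ring]; exact S.hmul ih hz
    have hmain : S.a i ^ j.natAbs • algebraMap A T₀ b =
        (b * ct ^ j.natAbs) • S.π (S.t i ^ j.natAbs) ∧ S.a i ^ j.natAbs • algebraMap A T₀ b =
        (b * tt ^ j.natAbs) • S.π (S.c i ^ j.natAbs) := by
      have h : algebraMap A T₀ (S.a i) = S.π (S.c i) * S.π (S.t i) := by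
        rw [← map_mul, ← S.a_eq, AlgHom.commutes]
      constructor
      · rw [Algebra.smul_def, Algebra.smul_def, map_pow, map_pow, map_mul, map_pow, h, hct, mul_pow]; ring
      · rw [Algebra.smul_def, Algebra.smul_def, map_pow, map_pow, map_mul, map_pow, h, htt, mul_pow]; ring
    show S.a i ^ j.natAbs • algebraMap A T₀ b ∈ _
    rcases Int.natAbs_eq j with hj | hj
    · rw [hmain.1]
      refine Submodule.smul_mem _ _ ⟨_, ?_, rfl⟩
      have := key j.natAbs _ _ (S.t_mem i)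
      rwa [mul_one, ← hj] at this
    · rw [hmain.2]
      refine Submodule.smul_mem _ _ ⟨_, ?_, rfl⟩
      have := key j.natAbs _ _ (S.c_mem i)
      rwa [mul_neg_one, ← hj] at this⟩
  exact rl_ne_top (k := k) (by rw [M₀, LinearMap.range_eq_map]; exact Module.Finite.fg_top.map _)
    fun a ha b hb => Submodule.mem_colon.1 (hk ha) b hb

theorem good_base :
    S.Good (baseHom (M := S.M) (M₀ := S.M₀) S.π S.hmul S.hmul₀) fun j => (S.colen j).toNat := by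
  have hQ : ∀ j, rl ((baseCx (A := A) (M := S.M₀) S.hmul₀).QD j)
      (((baseCx (A := A) (M := S.M) S.hmul).QD j).map
        (baseHom (M := S.M) (M₀ := S.M₀) S.π S.hmul S.hmul₀).onQ) = 0 := fun j => rl_eq_zero bot_le
  refine ⟨S.hfg, fun _ => Submodule.fg_bot,
    fun _ => by
      show (LinearMap.range (Algebra.linearMap A T₀)).FG
      rw [LinearMap.range_eq_map]; exact Module.Finite.fg_top.map _,
    fun _ => Submodule.fg_bot, fun hp h => S.hker hp h, fun {j q} _ _ => ⟨q, (rfl : (q : PUnit.{u + 1}) = PUnit.unit), rfl⟩,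
    S.hf, fun _ _ => rfl, fun hp => S.mem₀ hp 0, fun _ => Submodule.zero_mem _, fun _ => rfl, fun _ => rfl,
    fun j => S.colen_ne_top j, fun j => by rw [hQ j]; exact ENat.zero_ne_top, fun j => ?_⟩
  rw [hQ j]
  simp only [ENat.toNat_zero, Nat.cast_zero, sub_zero]
  rfl

theorem Good.cone {C : Cx A S.M} {C₀ : Cx A S.M₀} {φ : CxHom C C₀ S.π} {g : ℤ → ℤ} (h : S.Good φ g) {t : T}
    (ht : t ∈ S.M 1) : S.Good (φ.cone ht (S.mem₀ ht 1)) (diff g) := by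
  have eP : ∀ j, rl ((C₀.cone (S.π t) (S.mem₀ ht 1)).PD j)
      (((C.cone t ht).PD j).map (φ.cone ht (S.mem₀ ht 1)).onP) =
      rl (C₀.PD j) ((C.PD j).map φ.onP) + rl (C₀.QD (j + 1)) ((C.QD (j + 1)).map φ.onQ) := fun j => by
    rw [← rl_prod]
    congr 1
    exact LinearMap.prodMap_map_prod _ _ _ _
  have eQ : ∀ j, rl ((C₀.cone (S.π t) (S.mem₀ ht 1)).QD j)
      (((C.cone t ht).QD j).map (φ.cone ht (S.mem₀ ht 1)).onQ) =
      rl (C₀.QD j) ((C.QD j).map φ.onQ) + rl (C₀.PD (j + 1)) ((C.PD (j + 1)).map φ.onP) := fun j => by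
    rw [← rl_prod]
    congr 1
    exact LinearMap.prodMap_map_prod _ _ _ _
  refine ⟨fun j => (h.fgP j).prod (h.fgQ _), fun j => (h.fgQ j).prod (h.fgP _),
    fun j => (h.fgP₀ j).prod (h.fgQ₀ _), fun j => (h.fgQ₀ j).prod (h.fgP₀ _),
    fun {j p} hp hp0 => ?_, fun {j p} hp hp0 => ?_,
    fun p hp => Prod.ext (h.injP _ (congrArg Prod.fst hp)) (h.injQ _ (congrArg Prod.snd hp)),
    fun p hp => Prod.ext (h.injQ _ (congrArg Prod.fst hp)) (h.injP _ (congrArg Prod.snd hp)),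
    fun hp => ⟨h.mapsP hp.1, h.mapsQ hp.2⟩, fun hp => ⟨h.mapsQ hp.1, h.mapsP hp.2⟩,
    fun j => ?_, fun j => ?_, fun j => by rw [eP]; exact WithTop.add_ne_top.2 ⟨h.finP _, h.finQ _⟩,
    fun j => by rw [eQ]; exact WithTop.add_ne_top.2 ⟨h.finQ _, h.finP _⟩, fun j => ?_⟩
  · obtain ⟨a, ha, he⟩ := h.kerP hp.1 (congrArg Prod.fst hp0)
    obtain ⟨b, hb, he'⟩ := h.kerQ hp.2 (congrArg Prod.snd hp0)
    exact ⟨(a, b), ⟨ha, hb⟩, Prod.ext he he'⟩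
  · obtain ⟨a, ha, he⟩ := h.kerQ hp.1 (congrArg Prod.fst hp0)
    obtain ⟨b, hb, he'⟩ := h.kerP hp.2 (congrArg Prod.snd hp0)
    exact ⟨(a, b), ⟨ha, hb⟩, Prod.ext he he'⟩
  · show (C₀.PD j).prod (C₀.QD (j + 1)) = (C₀.PD 0).prod (C₀.QD (0 + 1))
    rw [h.constP j, h.constQ (j + 1), h.constQ (0 + 1)]
  · show (C₀.QD j).prod (C₀.PD (j + 1)) = (C₀.QD 0).prod (C₀.PD (0 + 1))
    rw [h.constQ j, h.constP (j + 1), h.constP (0 + 1)]
  · rw [eP, eQ, ENat.toNat_add (h.finP _) (h.finQ _), ENat.toNat_add (h.finQ _) (h.finP _), diff, h.eq, h.eq]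
    push_cast
    ring

theorem exists_good : ∀ L : List S.ι, ∃ (C : Cx A S.M) (C₀ : Cx A S.M₀) (φ : CxHom C C₀ S.π),
    S.Good φ (diff^[L.length] fun j => (S.colen j).toNat) ∧ ∀ i ∈ L, ∃ e : ℕ,
      C.Killed (algebraMap A T (S.a i ^ e)) ∧ C₀.Killed (algebraMap A T₀ (S.a i ^ e))
  | [] => ⟨_, _, _, S.good_base, fun i hi => absurd hi List.not_mem_nil⟩
  | i :: L => by
    obtain ⟨C, C₀, φ, h, hk⟩ := exists_good L
    refine ⟨_, _, _, by rw [List.length_cons, Function.iterate_succ_apply']; exact h.cone S (S.t_mem i),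
      fun k hk' => ?_⟩
    rcases List.mem_cons.1 hk' with rfl | hk'
    · have h0 : algebraMap A T₀ (S.a k) = S.π (S.c k) * S.π (S.t k) := by
        rw [← map_mul, ← S.a_eq, AlgHom.commutes]
      refine ⟨1, ?_, ?_⟩
      · rw [pow_one, S.a_eq]
        exact Cx.Killed.cone_self C (S.t_mem k) (S.c_mem k) (by simpa using S.hmul (S.c_mem k) (S.t_mem k))
      · rw [pow_one, h0]
        exact Cx.Killed.cone_self C₀ (S.mem₀ (S.t_mem k) 1) (S.mem₀ (S.c_mem k) (-1))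
          (h0 ▸ ⟨S.a k, rfl⟩)
    · obtain ⟨e, he, he'⟩ := hk k hk'
      refine ⟨e + e, ?_, ?_⟩
      · rw [pow_add, map_mul]
        exact he.cone (S.t_mem i) (by rw [← map_mul]; exact S.hone _)
      · rw [pow_add, map_mul]
        exact he'.cone (S.mem₀ (S.t_mem i) 1) ⟨S.a k ^ e * S.a k ^ e, map_mul (algebraMap A T₀) _ _⟩

theorem exists_killing {R : Type u} [CommRing R] [Algebra A R] {M' : ℤ → Submodule A R} {C : Cx A M'}
    (h : ∀ i ∈ S.s, ∃ e : ℕ, C.Killed (algebraMap A R (S.a i ^ e))) (j : ℤ) :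
    ∃ k : ℕ, ∀ a ∈ IsLocalRing.maximalIdeal A ^ k,
      (∀ b ∈ C.ZP j, a • b ∈ C.BP j) ∧ ∀ b ∈ C.ZQ j, a • b ∈ C.BQ j := by
  let I : Ideal A := (C.BP j).colon (C.ZP j : Set C.P) ⊓ (C.BQ j).colon (C.ZQ j : Set C.Q)
  obtain ⟨k, hk⟩ := S.exists_pow_le I fun i hi => by
    obtain ⟨e, he⟩ := h i hi
    refine ⟨e, Submodule.mem_colon.2 fun b hb => ?_, Submodule.mem_colon.2 fun b hb => ?_⟩
    · obtain ⟨q, hq, hqe⟩ := he.onP hb.1 hb.2
      exact ⟨q, hq, hqe.trans (algebraMap_smul R _ b)⟩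
    · obtain ⟨q, hq, hqe⟩ := he.onQ hb.1 hb.2
      exact ⟨q, hq, hqe.trans (algebraMap_smul R _ b)⟩
  exact ⟨k, fun a ha => ⟨fun b hb => Submodule.mem_colon.1 (hk ha).1 b hb,
    fun b hb => Submodule.mem_colon.1 (hk ha).2 b hb⟩⟩

/-- When the homology downstairs has zero Euler characteristic, so do the cokernels. -/
theorem Good.eq_zero {C : Cx A S.M} {C₀ : Cx A S.M₀} {φ : CxHom C C₀ S.π} {g : ℤ → ℤ} (h : S.Good φ g)
    (hk : ∀ i ∈ S.s, ∃ e : ℕ, C.Killed (algebraMap A T (S.a i ^ e)) ∧ C₀.Killed (algebraMap A T₀ (S.a i ^ e)))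
    (j : ℤ) (heq : rl (C₀.ZP j) (C₀.BP j) = rl (C₀.ZQ j) (C₀.BQ j)) : g j = 0 := by
  obtain ⟨k, hk1⟩ := S.exists_killing (C := C) (fun i hi => (hk i hi).imp fun e he => he.1) j
  obtain ⟨k₀, hk0⟩ := S.exists_killing (C := C₀) (fun i hi => (hk i hi).imp fun e he => he.2) j
  have hHP : rl (C.ZP j) (C.BP j) ≠ ⊤ :=
    rl_ne_top ((h.fgP j).of_le inf_le_left) fun a ha => (hk1 a ha).1
  have hHQ : rl (C.ZQ j) (C.BQ j) ≠ ⊤ :=
    rl_ne_top ((h.fgQ j).of_le inf_le_left) fun a ha => (hk1 a ha).2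
  have hH0 : rl (C₀.ZQ j) (C₀.BQ j) ≠ ⊤ :=
    rl_ne_top ((h.fgQ₀ j).of_le inf_le_left) fun a ha => (hk0 a ha).2
  have hfP : ∀ x ∈ C₀.PD j, S.f • x = 0 := fun x _ => by
    rw [← algebraMap_smul T₀ S.f x, S.hf₀, zero_smul]
  have hfQ : ∀ x ∈ C₀.QD j, S.f • x = 0 := fun x _ => by
    rw [← algebraMap_smul T₀ S.f x, S.hf₀, zero_smul]
  let d := C.d.restrictScalars A
  let d' := C.d'.restrictScalars A
  let d₀ := C₀.d.restrictScalars A
  let d₀' := C₀.d'.restrictScalars A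
  have hIP := rl_image_homology (d := d) (d' := d') (d₀ := d₀) (d₀' := d₀') S.f
    (fun x hx => C.d_mem hx) (fun y hy => C.d'_mem hy) C.d'_d C.d_d' φ.comm φ.comm' (fun x _ => h.injP x)
    (fun y _ => h.injQ y) hfP hfQ (fun x hx => h.kerP hx) (fun y hy => h.kerQ hy)
    (fun x hx => h.mapsP hx) (fun y hy => h.mapsQ hy) hHP
  have hIQ := rl_image_homology (d := d') (d' := d) (d₀ := d₀') (d₀' := d₀) S.f
    (fun x hx => C.d'_mem hx) (fun y hy => C.d_mem hy) C.d_d' C.d'_d φ.comm' φ.comm (fun x _ => h.injQ x)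
    (fun y _ => h.injP y) hfQ hfP (fun x hx => h.kerQ hx) (fun y hy => h.kerP hy)
    (fun x hx => h.mapsQ hx) (fun y hy => h.mapsP hy) hHQ
  rw [add_comm] at hIQ
  have hI := hIP.trans hIQ.symm
  have hIne : rl ((C.PD j).map φ.onP ⊓ LinearMap.ker d₀) (((C.QD j).map φ.onQ).map d₀') ≠ ⊤ := by
    rw [hIP]
    refine WithTop.add_ne_top.2 ⟨?_, ?_⟩
    · intro he
      refine hHQ ((rl_add (y := sat S.f (C.ZQ j) (C.BQ j)) (le_inf (C.BQ_le j) fun b hb => (C.BQ j).smul_mem S.f hb) inf_le_left).trans ?_)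
      exact WithTop.add_eq_top.2 (Or.inr he)
    · intro he
      refine hHP ((rl_add (y := sat S.f (C.ZP j) (C.BP j)) (le_inf (C.BP_le j) fun b hb => (C.BP j).smul_mem S.f hb) inf_le_left).trans ?_)
      exact WithTop.add_eq_top.2 (Or.inr he)
  have hImP : (C.PD j).map φ.onP ≤ C₀.PD j := by rintro _ ⟨x, hx, rfl⟩; exact h.mapsP hx
  have hImQ : (C.QD j).map φ.onQ ≤ C₀.QD j := by rintro _ ⟨x, hx, rfl⟩; exact h.mapsQ hx
  have w1 := rl_two_ways (d₀ := d₀) (d₀' := d₀') (X₀ := C₀.PD j) (Y₀ := C₀.QD j) (fun y hy => C₀.d'_mem hy)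
    C₀.d_d' hImP hImQ (by rintro _ ⟨y, hy, rfl⟩; exact ⟨d' y, C.d'_mem hy, φ.comm' y⟩)
  have w2 := rl_two_ways (d₀ := d₀') (d₀' := d₀) (X₀ := C₀.QD j) (Y₀ := C₀.PD j) (fun y hy => C₀.d_mem hy)
    C₀.d'_d hImQ hImP (by rintro _ ⟨y, hy, rfl⟩; exact ⟨d y, C.d_mem hy, φ.comm y⟩)
  have sP := rl_split d₀ hImP
  have sQ := rl_split d₀' hImQ
  rw [← hI] at w2
  change rl (C₀.ZP j) (C₀.BP j) + _ = _ at w1
  change rl (C₀.ZQ j) (C₀.BQ j) + _ = _ at w2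
  rw [heq] at w1
  set hH := rl (C₀.ZQ j) (C₀.BQ j)
  set hJ := rl ((C.PD j).map φ.onP ⊓ LinearMap.ker d₀) (((C.QD j).map φ.onQ).map d₀')
  have key : (hH + hJ) + rl (C₀.PD j) ((C.PD j).map φ.onP) =
      (hH + hJ) + rl (C₀.QD j) ((C.QD j).map φ.onQ) := by
    rw [sP, sQ]
    calc hH + hJ + (_ + _) = (hH + rl ((C₀.PD j).map d₀) (((C.PD j).map φ.onP).map d₀)) +
          (rl (C₀.PD j ⊓ LinearMap.ker d₀) ((C.PD j).map φ.onP ⊓ LinearMap.ker d₀) + hJ) := by ring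
      _ = _ := by rw [w2, ← w1]; ring
  rw [h.eq, WithTop.add_left_cancel (WithTop.add_ne_top.2 ⟨hH0, hIne⟩) key, sub_self]

/-- The Euler characteristic downstairs vanishes after coning with zero. -/
theorem Good.homology_cone_zero {C : Cx A S.M} {C₀ : Cx A S.M₀} {φ : CxHom C C₀ S.π} {g : ℤ → ℤ}
    (h : S.Good φ g) {t : T₀} (ht : t ∈ S.M₀ 1) (ht0 : t = 0) (j : ℤ) :
    rl ((C₀.cone t ht).ZP j) ((C₀.cone t ht).BP j) = rl ((C₀.cone t ht).ZQ j) ((C₀.cone t ht).BQ j) := by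
  subst ht0
  have eZP : (C₀.cone 0 ht).ZP j = (C₀.ZP j).prod (C₀.ZQ (j + 1)) := by
    ext ⟨a, b⟩
    show (a ∈ C₀.PD j ∧ b ∈ C₀.QD (j + 1)) ∧ (C₀.cone 0 ht).d (a, b) = 0 ↔ _
    rw [C₀.cone_d ht, zero_smul, zero_sub]
    exact ⟨fun hh => ⟨⟨hh.1.1, (congrArg Prod.fst hh.2 : _)⟩, hh.1.2, (neg_eq_zero.1 (congrArg Prod.snd hh.2) : _)⟩,
      fun hh => ⟨⟨hh.1.1, hh.2.1⟩, Prod.ext hh.1.2 (neg_eq_zero.2 hh.2.2)⟩⟩
  have eZQ : (C₀.cone 0 ht).ZQ j = (C₀.ZQ j).prod (C₀.ZP (j + 1)) := by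
    ext ⟨a, b⟩
    show (a ∈ C₀.QD j ∧ b ∈ C₀.PD (j + 1)) ∧ (C₀.cone 0 ht).d' (a, b) = 0 ↔ _
    rw [C₀.cone_d' ht, zero_smul, zero_sub]
    exact ⟨fun hh => ⟨⟨hh.1.1, (congrArg Prod.fst hh.2 : _)⟩, hh.1.2, (neg_eq_zero.1 (congrArg Prod.snd hh.2) : _)⟩,
      fun hh => ⟨⟨hh.1.1, hh.2.1⟩, Prod.ext hh.1.2 (neg_eq_zero.2 hh.2.2)⟩⟩
  have eBP : (C₀.cone 0 ht).BP j = (C₀.BP j).prod (C₀.BQ (j + 1)) := by
    refine le_antisymm ?_ ?_
    · rintro _ ⟨⟨a, b⟩, ⟨ha, hb⟩, rfl⟩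
      show (C₀.cone 0 ht).d' (a, b) ∈ _
      rw [C₀.cone_d' ht, zero_smul, zero_sub]
      exact ⟨⟨a, ha, rfl⟩, -b, (C₀.PD _).neg_mem hb, map_neg _ _⟩
    · rintro ⟨_, _⟩ ⟨⟨a, ha, rfl⟩, b, hb, rfl⟩
      exact ⟨(a, -b), ⟨ha, (C₀.PD _).neg_mem hb⟩, (C₀.cone_d' ht _ _).trans (by first | simp | (simp; rfl))⟩
  have eBQ : (C₀.cone 0 ht).BQ j = (C₀.BQ j).prod (C₀.BP (j + 1)) := by
    refine le_antisymm ?_ ?_
    · rintro _ ⟨⟨a, b⟩, ⟨ha, hb⟩, rfl⟩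
      show (C₀.cone 0 ht).d (a, b) ∈ _
      rw [C₀.cone_d ht, zero_smul, zero_sub]
      exact ⟨⟨a, ha, rfl⟩, -b, (C₀.QD _).neg_mem hb, map_neg _ _⟩
    · rintro ⟨_, _⟩ ⟨⟨a, ha, rfl⟩, b, hb, rfl⟩
      exact ⟨(a, -b), ⟨ha, (C₀.QD _).neg_mem hb⟩, (C₀.cone_d ht _ _).trans (by first | simp | (simp; rfl))⟩
  have cP : rl (C₀.ZP (j + 1)) (C₀.BP (j + 1)) = rl (C₀.ZP j) (C₀.BP j) := by
    simp only [Cx.ZP, Cx.BP, h.constP (j + 1), h.constQ (j + 1), h.constP j, h.constQ j]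
  have cQ : rl (C₀.ZQ (j + 1)) (C₀.BQ (j + 1)) = rl (C₀.ZQ j) (C₀.BQ j) := by
    simp only [Cx.ZQ, Cx.BQ, h.constP (j + 1), h.constQ (j + 1), h.constP j, h.constQ j]
  rw [eZP, eBP, eZQ, eBQ]
  refine (rl_prod (C₀.ZP j) (C₀.BP j) (C₀.ZQ (j + 1)) (C₀.BQ (j + 1))).trans
    (Eq.trans ?_ (rl_prod (C₀.ZQ j) (C₀.BQ j) (C₀.ZP (j + 1)) (C₀.BP (j + 1))).symm)
  rw [cP, cQ, add_comm]

/-- The iterated difference of the colengths vanishes. -/
theorem iterate_diff_eq_zero (j : ℤ) : diff^[S.s.toList.length + 1] (fun j => ((S.colen j).toNat : ℤ)) j = 0 := by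
  obtain ⟨C, C₀, φ, h, hk⟩ := S.exists_good S.s.toList
  have h0 : (0 : T) ∈ S.M 1 := Submodule.zero_mem _
  rw [Function.iterate_succ_apply']
  refine (h.cone S h0).eq_zero S (fun i hi => ?_) j
    (h.homology_cone_zero S (S.mem₀ h0 1) (map_zero _) j)
  obtain ⟨e, he, he'⟩ := hk i (Finset.mem_toList.2 hi)
  refine ⟨e + e, ?_, ?_⟩
  · rw [pow_add, map_mul]
    exact he.cone h0 (by rw [← map_mul]; exact S.hone _)
  · rw [pow_add, map_mul]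
    exact he'.cone (S.mem₀ h0 1) ⟨S.a i ^ e * S.a i ^ e, map_mul (algebraMap A T₀) _ _⟩

/-- A unit of degree `-N` reducing to one makes the colengths periodic. -/
theorem periodic {N : ℕ} {v w : T} (hv : v ∈ S.M (-(N : ℤ))) (hw : w ∈ S.M N) (hπ : S.π v = 1) (hwv : w * v = 1)
    (j : ℤ) : S.colen (j - N) = S.colen j := by
  refine congrArg (rl (S.M₀ 0)) (le_antisymm ?_ ?_)
  · rintro _ ⟨x, hx, rfl⟩
    refine ⟨w * x, by simpa using S.hmul hw hx, ?_⟩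
    have : S.π w = 1 := by
      have := congrArg S.π hwv
      rwa [map_mul, hπ, mul_one, map_one] at this
    simp [this]
  · rintro _ ⟨x, hx, rfl⟩
    exact ⟨v * x, by simpa [neg_add_eq_sub] using S.hmul hv hx, by simp [hπ]⟩

theorem colen_zero : S.colen 0 = 0 := rl_eq_zero (by
  rintro _ ⟨a, rfl⟩
  exact ⟨algebraMap A T a, S.hone a, S.π.commutes a⟩)

/-- Periodic colengths vanish in degree one. -/
theorem colen_one_of_periodic {N : ℕ} (hN : 0 < N) (h : ∀ j : ℤ, S.colen (j - N) = S.colen j) :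
    S.colen 1 = 0 := by
  have h := eq_of_iterate hN (fun j => congrArg (fun n : ℕ∞ => (n.toNat : ℤ)) (h j))
    S.iterate_diff_eq_zero
  simp only [S.colen_zero, ENat.toNat_zero, Nat.cast_zero, Nat.cast_eq_zero] at h
  exact (ENat.toNat_eq_zero.1 h).resolve_right (S.colen_ne_top 1)

/-- The degree one part is generated by a lift of one. -/
theorem exists_generator (h1 : S.colen 1 = 0) : ∃ x ∈ S.M 1, S.π x = 1 ∧ ∀ y ∈ S.M 1, ∃ b : A, y = b • x := by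
  obtain ⟨x, hx, hx1⟩ : ∃ x ∈ S.M 1, S.π x = 1 := le_of_rl_eq_zero h1 ⟨1, map_one (algebraMap A T₀)⟩
  refine ⟨x, hx, hx1, fun y hy => ?_⟩
  have hle : S.M 1 ≤ Submodule.span A {x} ⊔ Ideal.span {S.f} • S.M 1 := fun z hz => by
    obtain ⟨b, hb⟩ := S.hrange hz
    obtain ⟨z', hz', he⟩ := S.hker ((S.M 1).sub_mem hz ((S.M 1).smul_mem b hx))
      (by rw [map_sub, map_smul, hx1, ← Algebra.algebraMap_eq_smul_one, hb, sub_self])
    rw [← sub_add_cancel z (b • x), add_comm]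
    exact Submodule.add_mem_sup (Submodule.smul_mem _ _ (Submodule.mem_span_singleton_self x))
      (he ▸ Submodule.smul_mem_smul (Ideal.mem_span_singleton_self _) hz')
  have := Submodule.le_of_le_smul_of_le_jacobson_bot (S.hfg 1) (I := Ideal.span {S.f})
    ((Ideal.span_singleton_le_iff_mem _).2 (IsLocalRing.jacobson_eq_maximalIdeal (⊥ : Ideal A) bot_ne_top ▸ S.f_mem)) hle hy
  obtain ⟨b, hb⟩ := Submodule.mem_span_singleton.1 this
  exact ⟨b, hb.symm⟩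

end Setting

end Groth.L20.TorsPic
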