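import Groth.Agent.L04.Depth

/-!
# Regular pairs modulo an element
-/

set_option autoImplicit false
set_option linter.style.haveILetI false
universe u

noncomputable section

namespace Groth.L20.TorsPic

variable {A : Type u} [CommRing A] [IsLocalRing A] [IsNoetherianRing A]

theorem exists_pair_quotient {f : A} (hf : f ∈ IsLocalRing.maximalIdeal A) (hnzd : f ∈ nonZeroDivisors A)
    (hd : (3 : ℕ∞) ≤ LocCoh.depth A A) :
    ∃ x y : A, x ∈ IsLocalRing.maximalIdeal A ∧ y ∈ IsLocalRing.maximalIdeal A ∧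
      (∀ z, x * z ∈ Ideal.span {f} → z ∈ Ideal.span {f}) ∧
      ∀ z w, y * z - x * w ∈ Ideal.span {f} → ∃ a, z - x * a ∈ Ideal.span {f} := by
  have hreg : IsSMulRegular A f := fun a b h => by
    refine sub_eq_zero.1 ((mem_nonZeroDivisors_iff.1 hnzd).2 _ ?_)
    rw [mul_comm, mul_sub]
    exact sub_eq_zero.2 h
  have h2 : ((2 : ℕ) : ℕ∞) ≤ LocCoh.idealDepth (IsLocalRing.maximalIdeal A) (QuotSMulTop f A) :=
    (Groth.L04.le_idealDepth_quotSMulTop_iff hf hreg 2).2 (by exact_mod_cast hd)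
  have hmem : ∀ z : A, (Submodule.Quotient.mk z : QuotSMulTop f A) = 0 ↔ z ∈ Ideal.span {f} := fun z => by
    rw [Submodule.Quotient.mk_eq_zero, Submodule.mem_smul_pointwise_iff_exists, Ideal.mem_span_singleton']
    exact ⟨fun ⟨a, _, ha⟩ => ⟨a, by rw [mul_comm]; exact ha⟩, fun ⟨a, ha⟩ => ⟨a, trivial, by rw [smul_eq_mul, mul_comm]; exact ha⟩⟩
  have hne : (IsLocalRing.maximalIdeal A) • (⊤ : Submodule A (QuotSMulTop f A)) ≠ ⊤ := by
    intro h
    haveI : Subsingleton (QuotSMulTop f A) := subsingleton_iff.2 fun a b => by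
      have := Submodule.eq_bot_of_le_smul_of_le_jacobson_bot (IsLocalRing.maximalIdeal A)
        (⊤ : Submodule A (QuotSMulTop f A)) Module.Finite.fg_top h.ge
        (IsLocalRing.jacobson_eq_maximalIdeal (⊥ : Ideal A) bot_ne_top).ge
      have ha : a ∈ (⊥ : Submodule A (QuotSMulTop f A)) := this ▸ Submodule.mem_top
      have hb : b ∈ (⊥ : Submodule A (QuotSMulTop f A)) := this ▸ Submodule.mem_top
      rw [Submodule.mem_bot] at ha hb
      rw [ha, hb]
    exact (IsLocalRing.maximalIdeal.isMaximal A).ne_top (Ideal.eq_top_iff_one _ |>.2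
      ((Ideal.span_singleton_le_iff_mem _).2 hf ((hmem 1).1 (Subsingleton.elim _ _))))
  obtain ⟨rs, hlen, hrs, hI⟩ := Groth.L04.exists_of_le_idealDepth hne (n := 2) h2
  match rs, hlen with
  | [x, y], _ =>
    rw [RingTheory.Sequence.isWeaklyRegular_cons_iff, RingTheory.Sequence.isWeaklyRegular_singleton_iff] at hrs
    refine ⟨x, y, hI x (by simp), hI y (by simp), fun z hz => ?_, fun z w hzw => ?_⟩
    · refine (hmem z).1 (hrs.1.right_eq_zero_of_smul ?_)
      rw [← Submodule.Quotient.mk_smul]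
      exact (hmem _).2 hz
    · have h1 : y • (Submodule.Quotient.mk (Submodule.Quotient.mk z : QuotSMulTop f A) :
          QuotSMulTop x (QuotSMulTop f A)) = 0 := by
        rw [← Submodule.Quotient.mk_smul, Submodule.Quotient.mk_eq_zero]
        refine (Submodule.mem_smul_pointwise_iff_exists _ _ _).2 ⟨Submodule.Quotient.mk w, trivial, ?_⟩
        rw [← Submodule.Quotient.mk_smul, ← Submodule.Quotient.mk_smul, eq_comm, ← sub_eq_zero,
          ← Submodule.Quotient.mk_sub]
        exact (hmem _).2 hzw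
      obtain ⟨a, -, ha⟩ := (Submodule.mem_smul_pointwise_iff_exists _ _ _).1
        ((Submodule.Quotient.mk_eq_zero _).1 (hrs.2.right_eq_zero_of_smul h1))
      obtain ⟨a, rfl⟩ := Submodule.Quotient.mk_surjective _ a
      refine ⟨a, (hmem _).1 ?_⟩
      rw [Submodule.Quotient.mk_sub, ← ha, ← Submodule.Quotient.mk_smul, smul_eq_mul, sub_self]

theorem exists_pair (hd : (2 : ℕ∞) ≤ LocCoh.depth A A) :
    ∃ x y : A, x ∈ IsLocalRing.maximalIdeal A ∧ y ∈ IsLocalRing.maximalIdeal A ∧
      (∀ z, x * z = 0 → z = 0) ∧ ∀ z w, y * z = x * w → ∃ a, z = x * a := by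
  have hne : (IsLocalRing.maximalIdeal A) • (⊤ : Submodule A A) ≠ ⊤ := by
    rw [Ideal.smul_eq_mul, Ideal.mul_top]
    exact (IsLocalRing.maximalIdeal.isMaximal A).ne_top
  obtain ⟨rs, hlen, hreg, hmem⟩ := Groth.L04.exists_of_le_idealDepth hne (n := 2) (by exact_mod_cast hd)
  match rs, hlen with
  | [x, y], _ =>
    rw [RingTheory.Sequence.isWeaklyRegular_cons_iff, RingTheory.Sequence.isWeaklyRegular_singleton_iff] at hreg
    refine ⟨x, y, hmem x (by simp), hmem y (by simp), fun a ha => hreg.1.right_eq_zero_of_smul ha,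
      fun z w hzw => ?_⟩
    have h1 : y • (Submodule.Quotient.mk z : QuotSMulTop x A) = 0 := by
      rw [← Submodule.Quotient.mk_smul, Submodule.Quotient.mk_eq_zero, smul_eq_mul, hzw]
      exact (Submodule.mem_smul_pointwise_iff_exists _ _ _).2 ⟨w, trivial, rfl⟩
    obtain ⟨d, -, hd⟩ := (Submodule.mem_smul_pointwise_iff_exists _ _ _).1
      ((Submodule.Quotient.mk_eq_zero _).1 (hreg.2.right_eq_zero_of_smul h1))
    exact ⟨d, hd.symm⟩

end Groth.L20.TorsPic
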