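import Groth.Agent.L20.TorsPic.Charts
import Groth.Agent.L20.TorsPic.Regular
import Groth.Agent.L04.LC.Torsion

/-!
# Compatible tuples modulo a regular sequence of length two
-/

set_option autoImplicit false
set_option linter.style.haveILetI false
set_option backward.isDefEq.respectTransparency false
universe u

open CategoryTheory
open scoped Pointwise

noncomputable section

namespace Groth.L20.TorsPic.Atlas

variable {A : Type u} [CommRing A] [IsLocalRing A] [IsNoetherianRing A] (D : Atlas A) (x : A)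

/-- The ideal cut out by `f` and `x`. -/
abbrev I₂ : Ideal A := Ideal.span {D.f, x}

/-- Tuples modulo `(f, x)`. -/
abbrev J₂ : Ideal D.T := (D.I₂ x).map (algebraMap A D.T)

theorem mem_J₂ (z : D.T) : z ∈ D.J₂ x ↔ ∀ i, z i ∈ (D.I₂ x).map (algebraMap A (D.R i)) := by
  simp only [Ideal.map_span, Set.image_pair, Ideal.mem_span_pair]
  constructor
  · rintro ⟨a, b, h⟩ i
    exact ⟨a i, b i, congrFun h i⟩
  · intro h
    choose a b hab using h
    exact ⟨a, b, funext hab⟩

/-- The module of compatible tuples modulo `(f, x)`. -/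
def glued : Submodule A (D.T ⧸ D.J₂ x) :=
  Submodule.map (Ideal.Quotient.mkₐ A (D.J₂ x)).toLinearMap
    { carrier := {z | ∀ i k, D.r₁ i k (z i) - D.r₂ i k (z k) ∈ (D.I₂ x).map (algebraMap A (D.R₂ i k))}
      zero_mem' := fun i k => by simp
      add_mem' := fun {a b} ha hb i k => by
        rw [Pi.add_apply, Pi.add_apply, map_add, map_add, add_sub_add_comm]
        exact add_mem (ha i k) (hb i k)
      smul_mem' := fun c a ha i k => by
        rw [Pi.smul_apply, Pi.smul_apply, map_smul, map_smul, ← smul_sub, Algebra.smul_def]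
        exact Ideal.mul_mem_left _ _ (ha i k) }

/-- The scalars among them. -/
def scalars : Submodule A (D.T ⧸ D.J₂ x) := LinearMap.range (Algebra.linearMap A (D.T ⧸ D.J₂ x))

theorem scalar_eq (a : A) :
    Algebra.linearMap A (D.T ⧸ D.J₂ x) a = Ideal.Quotient.mk (D.J₂ x) (algebraMap A D.T a) := rfl

theorem scalars_le : D.scalars x ≤ D.glued x := by
  rintro _ ⟨a, rfl⟩
  exact ⟨algebraMap A D.T a, fun i k => by simp [Pi.algebraMap_apply], (D.scalar_eq x a).symm⟩

/-- The quotient module mapping to tuples. -/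
def toT₂ : QuotSMulTop x (QuotSMulTop D.f A) →ₗ[A] D.T ⧸ D.J₂ x :=
  Submodule.liftQ _ (Submodule.liftQ _ (Algebra.linearMap A (D.T ⧸ D.J₂ x)) (by
    intro a ha
    obtain ⟨b, -, rfl⟩ := (Submodule.mem_smul_pointwise_iff_exists _ _ _).1 ha
    exact Ideal.Quotient.eq_zero_iff_mem.2 (Ideal.mem_map_of_mem _
      (Ideal.mul_mem_right b _ (Ideal.subset_span (Set.mem_insert _ _)))))) (by
    intro a ha
    obtain ⟨b, -, rfl⟩ := (Submodule.mem_smul_pointwise_iff_exists _ _ _).1 ha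
    obtain ⟨b, rfl⟩ := Submodule.Quotient.mk_surjective _ b
    exact Ideal.Quotient.eq_zero_iff_mem.2 (Ideal.mem_map_of_mem _
      (Ideal.mul_mem_right b _ (Ideal.subset_span (Set.mem_insert_of_mem _ rfl)))))

theorem toT₂_mk (a : A) : D.toT₂ x (Submodule.Quotient.mk (Submodule.Quotient.mk a)) =
    Ideal.Quotient.mk (D.J₂ x) (algebraMap A D.T a) := rfl

theorem range_toT₂ : LinearMap.range (D.toT₂ x) = D.scalars x := by
  refine le_antisymm ?_ ?_
  · rintro _ ⟨b, rfl⟩
    obtain ⟨b, rfl⟩ := Submodule.Quotient.mk_surjective _ b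
    obtain ⟨b, rfl⟩ := Submodule.Quotient.mk_surjective _ b
    exact ⟨b, rfl⟩
  · rintro _ ⟨a, rfl⟩
    exact ⟨_, D.toT₂_mk x a⟩

theorem mk_eq_zero_of_mem {a : A} (ha : a ∈ D.I₂ x) :
    (Submodule.Quotient.mk (Submodule.Quotient.mk a) : QuotSMulTop x (QuotSMulTop D.f A)) = 0 := by
  obtain ⟨b, c, rfl⟩ := Ideal.mem_span_pair.1 ha
  rw [Submodule.Quotient.mk_eq_zero, Submodule.mem_smul_pointwise_iff_exists]
  refine ⟨Submodule.Quotient.mk c, trivial, ?_⟩
  rw [← Submodule.Quotient.mk_smul, Submodule.Quotient.eq, Submodule.mem_smul_pointwise_iff_exists]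
  exact ⟨-b, trivial, by simp only [smul_eq_mul]; ring⟩

theorem mk_one_smul (g : A) (n : ℕ) (a : A) :
    g ^ n • (Submodule.Quotient.mk (Submodule.Quotient.mk a) : QuotSMulTop x (QuotSMulTop D.f A)) =
      Submodule.Quotient.mk (Submodule.Quotient.mk (g ^ n * a)) := rfl

theorem exists_maximal_pow (I : Ideal A) (h : ∀ l, ∃ n : ℕ, D.g l ^ n ∈ I) :
    ∃ k : ℕ, IsLocalRing.maximalIdeal A ^ k ≤ I := by
  by_cases htop : I = ⊤
  · exact ⟨0, htop ▸ le_top⟩
  refine Ideal.exists_pow_le_of_le_radical_of_fg (fun w hw => ?_) (IsNoetherian.noetherian _)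
  refine Ideal.radical_le_radical_iff.2 ?_ (D.mem_radical hw)
  rw [Ideal.span_le]
  rintro _ ⟨l, rfl⟩
  exact h l

theorem eq_zero_of_pow_smul {B : Type u} [AddCommGroup B] [Module A B]
    (hB : (1 : ℕ∞) ≤ LocCoh.idealDepth (IsLocalRing.maximalIdeal A) B) [Module.Finite A B] :
    ∀ (k : ℕ) (b : B), (∀ r ∈ IsLocalRing.maximalIdeal A ^ k, r • b = 0) → b = 0
  | 0, b, h => by simpa using h 1 (by simp)
  | k + 1, b, h => eq_zero_of_pow_smul hB k b fun r hr => Groth.L04.hom_zero_of_one_le hB fun a ha => by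
      rw [← mul_smul]
      refine h _ ?_
      rw [pow_succ']
      exact Ideal.mul_mem_mul ha hr

theorem eq_zero_of_unit_smul {z : D.T ⧸ D.J₂ x} (h : ∀ l, ∃ n : ℕ, D.g l ^ n • z = 0) : z = 0 := by
  obtain ⟨z, rfl⟩ := Ideal.Quotient.mk_surjective z
  refine Ideal.Quotient.eq_zero_iff_mem.2 ((D.mem_J₂ x z).2 fun i => ?_)
  obtain ⟨n, hn⟩ := h i
  have hm : D.g i ^ n • z ∈ D.J₂ x := Ideal.Quotient.eq_zero_iff_mem.1 hn
  have h2 := (D.mem_J₂ x _).1 hm i
  rw [Pi.smul_apply, Algebra.smul_def, map_pow] at h2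
  exact (Ideal.unit_mul_mem_iff_mem _ ((isUnit_g D.g D.R i).pow n)).1 h2

variable (hB : (1 : ℕ∞) ≤ LocCoh.idealDepth (IsLocalRing.maximalIdeal A) (QuotSMulTop x (QuotSMulTop D.f A)))

include hB in
theorem toT₂_injective : Function.Injective (D.toT₂ x) := by
  rw [← LinearMap.ker_eq_bot, Submodule.eq_bot_iff]
  intro b hb
  obtain ⟨b, rfl⟩ := Submodule.Quotient.mk_surjective _ b
  obtain ⟨a, rfl⟩ := Submodule.Quotient.mk_surjective _ b
  rw [LinearMap.mem_ker, D.toT₂_mk, Ideal.Quotient.eq_zero_iff_mem, D.mem_J₂] at hb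
  obtain ⟨k, hk⟩ := D.exists_maximal_pow
    ((⊥ : Submodule A (QuotSMulTop x (QuotSMulTop D.f A))).colon
      ({Submodule.Quotient.mk (Submodule.Quotient.mk a)} : Set _)) fun l => by
    obtain ⟨n, hn⟩ := exists_pow_mul_mem (s := D.g l) (hb l)
    refine ⟨n, Submodule.mem_colon_singleton.2 ((Submodule.mem_bot _).2 ?_)⟩
    exact (D.mk_one_smul x _ _ _).trans (D.mk_eq_zero_of_mem x hn)
  exact eq_zero_of_pow_smul hB k _ fun r hr =>
    (Submodule.mem_bot _).1 (Submodule.mem_colon_singleton.1 (hk hr))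

/-- Powers of the `g`'s push compatible tuples into the scalars. -/
theorem exists_pow_smul_mem {z : D.T ⧸ D.J₂ x} (hz : z ∈ D.glued x) (l : D.ι) :
    ∃ n : ℕ, D.g l ^ n • z ∈ D.scalars x := by
  obtain ⟨z, hz, rfl⟩ := hz
  obtain ⟨⟨a, _, K, rfl⟩, hp⟩ := IsLocalization.surj (Submonoid.powers (D.g l)) (z l)
  have hk : ∀ k, ∃ n : ℕ, algebraMap A (D.R k) (D.g l ^ (n + K)) * z k -
      algebraMap A (D.R k) (D.g l ^ n * a) ∈ (D.I₂ x).map (algebraMap A (D.R k)) := fun k => by
    obtain ⟨⟨b, _, e, rfl⟩, hb⟩ := IsLocalization.surj (Submonoid.powers (D.g k)) (z k)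
    have h1 := congrArg (D.r₁ l k) hp
    have h2 := congrArg (D.r₂ l k) hb
    simp only [map_mul, AlgHom.commutes] at h1 h2
    have hmem : algebraMap A (D.R₂ l k) (D.g k ^ e * a - D.g l ^ K * b) ∈
        (D.I₂ x).map (algebraMap A (D.R₂ l k)) := by
      rw [show algebraMap A (D.R₂ l k) (D.g k ^ e * a - D.g l ^ K * b) =
          algebraMap A (D.R₂ l k) (D.g k ^ e * D.g l ^ K) * (D.r₁ l k (z l) - D.r₂ l k (z k)) by
        simp only [map_sub, map_mul] at *
        linear_combination -(algebraMap A (D.R₂ l k) (D.g k ^ e)) * h1 + (algebraMap A (D.R₂ l k) (D.g l ^ K)) * h2]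
      exact Ideal.mul_mem_left _ _ (hz l k)
    obtain ⟨n, hn⟩ := exists_pow_mul_mem (s := D.g l * D.g k) hmem
    refine ⟨n, ?_⟩
    have h3 := Ideal.mem_map_of_mem (algebraMap A (D.R k)) hn
    have hu : IsUnit (algebraMap A (D.R k) (D.g k ^ (n + e))) := by
      rw [map_pow]; exact (isUnit_g D.g D.R k).pow _
    refine (Ideal.unit_mul_mem_iff_mem _ hu).1 ?_
    rw [show algebraMap A (D.R k) (D.g k ^ (n + e)) *
        (algebraMap A (D.R k) (D.g l ^ (n + K)) * z k - algebraMap A (D.R k) (D.g l ^ n * a)) =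
        -algebraMap A (D.R k) ((D.g l * D.g k) ^ n * (D.g k ^ e * a - D.g l ^ K * b)) by
      simp only [pow_add, mul_pow, map_mul, map_sub] at *
      linear_combination (algebraMap A (D.R k) (D.g k ^ n) * algebraMap A (D.R k) (D.g l ^ n) *
        algebraMap A (D.R k) (D.g l ^ K)) * hb]
    exact neg_mem h3
  choose n hn using hk
  let E := Finset.univ.sup n
  refine ⟨E + K, D.g l ^ E * a, ?_⟩
  rw [scalar_eq]
  show _ = D.g l ^ (E + K) • Ideal.Quotient.mk (D.J₂ x) z
  rw [show D.g l ^ (E + K) • Ideal.Quotient.mk (D.J₂ x) z = Ideal.Quotient.mk (D.J₂ x) (algebraMap A D.T (D.g l ^ (E + K)) * z) from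
    (congrArg (Ideal.Quotient.mk (D.J₂ x)) (Algebra.smul_def (D.g l ^ (E + K)) z)), eq_comm, Ideal.Quotient.eq, D.mem_J₂]
  intro k
  obtain ⟨d, hd⟩ := Nat.exists_eq_add_of_le (Finset.le_sup (f := n) (Finset.mem_univ k))
  have := Ideal.mul_mem_left _ (algebraMap A (D.R k) (D.g l ^ d)) (hn k)
  convert this using 1
  show algebraMap A (D.R k) (D.g l ^ (E + K)) * z k - algebraMap A (D.R k) (D.g l ^ E * a) = _
  rw [show E = n k + d from hd]
  simp only [pow_add, map_mul]
  ring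

include hB in
/-- The compatible tuples modulo `(f, x)` exceed the scalars by finite length. -/
theorem rl_glued_ne_top (hkill : ∃ k : ℕ, ∀ r ∈ IsLocalRing.maximalIdeal A ^ k,
      ∀ c : LocCoh.H (IsLocalRing.maximalIdeal A) 1 (QuotSMulTop x (QuotSMulTop D.f A)), r • c = 0) :
    rl (D.glued x) (D.scalars x) ≠ ⊤ := by
  let 𝔪 := IsLocalRing.maximalIdeal A
  let B := QuotSMulTop x (QuotSMulTop D.f A)
  let φ : B →ₗ[A] D.glued x := (D.toT₂ x).codRestrict _ fun b =>
    D.scalars_le x (D.range_toT₂ x ▸ LinearMap.mem_range_self (D.toT₂ x) b)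
  have hφ : Function.Injective φ := fun a b h => D.toT₂_injective x hB (congrArg Subtype.val h)
  have hS := Groth.L04.LC.quotient_shortExact φ hφ
  obtain ⟨k, hk⟩ := hkill
  have hpow : ∀ z : D.glued x, (∃ n : ℕ, ∀ r ∈ 𝔪 ^ n, r • z = 0) → z = 0 := by
    rintro ⟨z, hz⟩ ⟨n, hn⟩
    refine Subtype.ext (D.eq_zero_of_unit_smul x fun l => ?_)
    exact ⟨n, congrArg Subtype.val (hn _ (Ideal.pow_mem_pow (D.g_mem l) n))⟩
  haveI : Subsingleton (LocCoh.H 𝔪 0 (D.glued x)) := by
    refine subsingleton_of_forall_eq 0 fun c => (Groth.L04.LC.H0Equiv 𝔪 (ModuleCat.of A (D.glued x))).injective ?_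
    rw [map_zero]
    exact Subtype.ext (hpow _ ((Groth.L04.LC.H0Equiv 𝔪 (ModuleCat.of A (D.glued x))) c).2)
  have hG : ∀ r ∈ 𝔪 ^ k, ∀ z : D.glued x, r • z ∈ LinearMap.range φ := by
    intro r hr z
    rw [← Submodule.Quotient.mk_eq_zero]
    let G := D.glued x ⧸ LinearMap.range φ
    have htor : (Submodule.Quotient.mk z : G) ∈ DRing.torsionSub 𝔪 G := by
      obtain ⟨n, hn⟩ := D.exists_maximal_pow ((LinearMap.range φ).colon ({z} : Set (D.glued x))) fun l => by
        obtain ⟨n, hn⟩ := D.exists_pow_smul_mem x z.2 l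
        refine ⟨n, Submodule.mem_colon_singleton.2 ?_⟩
        rw [← D.range_toT₂ x] at hn
        obtain ⟨b, hb⟩ := hn
        exact ⟨b, Subtype.ext hb⟩
      exact ⟨n, fun a ha => by
        rw [← Submodule.Quotient.mk_smul, Submodule.Quotient.mk_eq_zero]
        exact Submodule.mem_colon_singleton.1 (hn ha)⟩
    let c : LocCoh.H 𝔪 0 G := (Groth.L04.LC.H0Equiv 𝔪 (ModuleCat.of A G)).symm ⟨_, htor⟩
    have h1 : Groth.L04.LC.Hδ 𝔪 hS 0 (r • c) = 0 := by
      rw [map_smul]
      exact hk r hr _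
    obtain ⟨y, hy⟩ := (Groth.L04.LC.H_exact₃ 𝔪 hS 0 (r • c)).1 h1
    rw [Subsingleton.elim y 0, map_zero] at hy
    have h2 := congrArg (fun w => ((Groth.L04.LC.H0Equiv 𝔪 (ModuleCat.of A G)) w : G)) hy.symm
    simp only [map_smul, map_zero, Submodule.coe_smul, ZeroMemClass.coe_zero, c,
      LinearEquiv.apply_symm_apply] at h2
    rw [Submodule.Quotient.mk_smul]
    exact h2
  have hfg : (D.glued x).FG := by
    obtain ⟨s, hs⟩ := IsNoetherian.noetherian (𝔪 ^ k)
    let e := LinearEquiv.ofInjective φ hφ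
    let ψ : D.glued x →ₗ[A] (↥s → B) := LinearMap.pi fun r =>
      e.symm.toLinearMap ∘ₗ (LinearMap.lsmul A (D.glued x) r.1).codRestrict (LinearMap.range φ)
        (fun z => hG r.1 (hs ▸ Submodule.subset_span r.2) z)
    have hψ : Function.Injective ψ := by
      rw [← LinearMap.ker_eq_bot, Submodule.eq_bot_iff]
      intro z hz
      refine hpow z ⟨k, fun r hr => ?_⟩
      rw [← hs] at hr
      induction hr using Submodule.span_induction with
      | mem r hr =>
        have h := congrFun (LinearMap.mem_ker.1 hz) ⟨r, hr⟩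
        exact congrArg Subtype.val ((LinearEquiv.map_eq_zero_iff e.symm).1 h)
      | zero => exact zero_smul A z
      | add a b _ _ ha hb => rw [add_smul, ha, hb, add_zero]
      | smul c a _ ha => rw [smul_assoc, ha, smul_zero]
    haveI : Module.Finite A (D.glued x) := Module.Finite.of_injective ψ hψ
    exact Module.Finite.iff_fg.1 inferInstance
  refine rl_ne_top (k := k) hfg fun r hr b hb => ?_
  obtain ⟨w, hw⟩ := hG r hr ⟨b, hb⟩
  rw [← D.range_toT₂ x]
  exact ⟨w, congrArg Subtype.val hw⟩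

end Groth.L20.TorsPic.Atlas
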