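import Groth.Agent.L20.TorsPic.Regular
import Groth.Agent.L04.LC.AnnihDuality
import Groth.Agent.L04.LC.Torsion
import Groth.Agent.L04.CMBasic
import Mathlib.Algebra.Module.LocalizedModule.Exact
import Mathlib.RingTheory.Regular.RegularSequence

/-!
# A parameter cutting the second local cohomology of the quotient down to finite length
-/

set_option autoImplicit false
set_option linter.style.haveILetI false
set_option backward.isDefEq.respectTransparency false
set_option maxHeartbeats 1000000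
universe u

open CategoryTheory
open scoped Pointwise
attribute [local instance] HasDerivedCategory.standard

noncomputable section

namespace Groth.L20.TorsPic

theorem lt_add_of_le {s a b : ℕ} {e : ℕ∞} {x : WithBot ℕ∞} (he : (a : ℕ∞) ≤ e) (hx : (b : WithBot ℕ∞) ≤ x)
    (h : s < a + b) : (s : WithBot ℕ∞) < (e : WithBot ℕ∞) + x := by
  refine lt_of_lt_of_le ?_ (add_le_add (WithBot.coe_le_coe.2 he) hx)
  exact_mod_cast h

theorem succ_natCast_le {n : ℕ} {x : WithBot ℕ∞} (h : (n : WithBot ℕ∞) < x) : ((n + 1 : ℕ) : WithBot ℕ∞) ≤ x := by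
  cases x with
  | bot => simp at h
  | coe d =>
    have h' : (n : ℕ∞) < d := by exact_mod_cast h
    exact_mod_cast Order.add_one_le_of_lt h'

theorem natCast_le_of_lt_add_one {n : ℕ} {e : ℕ∞} {x : WithBot ℕ∞} (hx : x ≤ 1)
    (h : ((n : ℕ) : WithBot ℕ∞) < (e : WithBot ℕ∞) + x) : (n : ℕ∞) ≤ e := by
  have h' := h.trans_le (add_le_add le_rfl hx)
  cases e with
  | top => simp
  | coe e =>
    have : n < e + 1 := by exact_mod_cast h'
    exact_mod_cast (show n ≤ e by omega)

variable {A : Type u} [CommRing A] [IsNoetherianRing A]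

theorem depth_eq_top_of_notMem {M : Type u} [AddCommGroup M] [Module A M] (p : Ideal A) [p.IsPrime] {z : A}
    (hz : z ∉ p) :
    LocCoh.depth (Localization.AtPrime p) (LocalizedModule p.primeCompl (QuotSMulTop z M)) = ⊤ := by
  haveI : Subsingleton (LocalizedModule p.primeCompl (QuotSMulTop z M)) := by
    refine LocalizedModule.subsingleton_iff.2 fun m => ⟨z, hz, ?_⟩
    obtain ⟨m, rfl⟩ := Submodule.Quotient.mk_surjective _ m
    rw [← Submodule.Quotient.mk_smul, Submodule.Quotient.mk_eq_zero]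
    exact (Submodule.mem_smul_pointwise_iff_exists _ _ _).2 ⟨m, trivial, rfl⟩
  exact Groth.L04.idealDepth_eq_top (Subsingleton.elim _ _)

theorem le_depth_localized_quot {M : Type u} [AddCommGroup M] [Module A M] [Module.Finite A M] (p : Ideal A)
    [p.IsPrime] {z : A} (hz : z ∈ p) (hreg : IsSMulRegular M z) (n : ℕ)
    (h : ((n + 1 : ℕ) : ℕ∞) ≤ LocCoh.depth (Localization.AtPrime p) (LocalizedModule p.primeCompl M)) :
    (n : ℕ∞) ≤ LocCoh.depth (Localization.AtPrime p) (LocalizedModule p.primeCompl (QuotSMulTop z M)) := by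
  let R' := Localization.AtPrime p
  let Mp := LocalizedModule p.primeCompl M
  let z' : R' := algebraMap A R' z
  let m : M →ₗ[A] M := LinearMap.lsmul A M z
  let q : M →ₗ[A] QuotSMulTop z M := Submodule.mkQ _
  have hex : Function.Exact m q := fun a => by
    rw [show q a = Submodule.Quotient.mk a from rfl, Submodule.Quotient.mk_eq_zero,
      Submodule.mem_smul_pointwise_iff_exists]
    exact ⟨fun ⟨b, _, hb⟩ => ⟨b, hb⟩, fun ⟨b, hb⟩ => ⟨b, trivial, hb⟩⟩
  have hm : ∀ a : Mp, LocalizedModule.map p.primeCompl m a = z' • a := fun a => by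
    induction a using LocalizedModule.induction_on with
    | _ a s =>
      rw [LocalizedModule.map_mk]
      show LocalizedModule.mk (z • a) s = algebraMap A R' z • LocalizedModule.mk a s
      rw [algebraMap_smul, LocalizedModule.smul'_mk]
  have hex' := LocalizedModule.map_exact p.primeCompl m q hex
  have hinj : IsSMulRegular Mp z' := fun a b hab => by
    have hab' : z' • a = z' • b := hab
    rw [← hm, ← hm] at hab'
    exact LocalizedModule.map_injective p.primeCompl m hreg hab'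
  let Q := LocalizedModule.map p.primeCompl q
  have hk : LinearMap.ker Q = z' • (⊤ : Submodule R' Mp) := by
    ext a
    rw [LinearMap.mem_ker, Submodule.mem_smul_pointwise_iff_exists]
    refine (hex' a).trans ⟨fun ⟨b, hb⟩ => ⟨b, trivial, (hm b).symm.trans hb⟩,
      fun ⟨b, _, hb⟩ => ⟨b, (hm b).trans hb⟩⟩
  let e : QuotSMulTop z' Mp ≃ₗ[R'] LocalizedModule p.primeCompl (QuotSMulTop z M) :=
    (Submodule.quotEquivOfEq _ _ hk.symm).trans
      (Q.quotKerEquivOfSurjective (LocalizedModule.map_surjective p.primeCompl q (Submodule.mkQ_surjective _)))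
  have hz' : z' ∈ IsLocalRing.maximalIdeal R' := by
    rw [← IsLocalization.AtPrime.map_eq_maximalIdeal p R']
    exact Ideal.mem_map_of_mem _ hz
  have := (Groth.L04.le_idealDepth_quotSMulTop_iff hz' hinj n).2 h
  rwa [Groth.L04.idealDepth_congr e] at this

variable [IsLocalRing A]

theorem le_krullDim_Icc (p q : PrimeSpectrum A) (hq : q.asIdeal = IsLocalRing.maximalIdeal A) :
    ringKrullDim (A ⧸ p.asIdeal) ≤ Order.krullDim (Set.Icc p q) := by
  rw [ringKrullDim_quotient]
  refine Order.krullDim_le_of_strictMono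
    (fun r : PrimeSpectrum.zeroLocus (p.asIdeal : Set A) => (⟨r.1, ⟨r.2,
      show r.1.asIdeal ≤ q.asIdeal from hq ▸ IsLocalRing.le_maximalIdeal r.1.2.ne_top⟩⟩ : Set.Icc p q))
    fun a b h => h

theorem natCast_le_ringKrullDim_quotient (p : Ideal A) [p.IsPrime] (hp : p ≠ IsLocalRing.maximalIdeal A) :
    (1 : WithBot ℕ∞) ≤ ringKrullDim (A ⧸ p) := by
  rw [ringKrullDim_quotient]
  let a : PrimeSpectrum.zeroLocus (p : Set A) := ⟨⟨p, inferInstance⟩, fun _ h => h⟩
  let b : PrimeSpectrum.zeroLocus (p : Set A) :=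
    ⟨IsLocalRing.closedPoint A, IsLocalRing.le_maximalIdeal (Ideal.IsPrime.ne_top ‹_›)⟩
  have hab : a < b := lt_of_le_of_ne (IsLocalRing.le_maximalIdeal (Ideal.IsPrime.ne_top ‹_›))
    fun h => hp (congrArg PrimeSpectrum.asIdeal (congrArg Subtype.val h))
  exact_mod_cast Order.LTSeries.length_le_krullDim ((RelSeries.singleton _ a).snoc b hab)

theorem eq_of_le_of_dim_le_one {p₀ : Ideal A} {p : PrimeSpectrum A} [hp₀ : p₀.IsPrime] (hle : p₀ ≤ p.asIdeal)
    (hpm : p.asIdeal ≠ IsLocalRing.maximalIdeal A) (h : ringKrullDim (A ⧸ p₀) ≤ 1) : p₀ = p.asIdeal := by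
  by_contra heq
  rw [ringKrullDim_quotient] at h
  let a : PrimeSpectrum.zeroLocus (p₀ : Set A) := ⟨⟨p₀, hp₀⟩, fun _ h => h⟩
  let b : PrimeSpectrum.zeroLocus (p₀ : Set A) := ⟨p, hle⟩
  let c : PrimeSpectrum.zeroLocus (p₀ : Set A) := ⟨IsLocalRing.closedPoint A, IsLocalRing.le_maximalIdeal hp₀.ne_top⟩
  have hab : a < b := lt_of_le_of_ne hle fun h => heq (congrArg PrimeSpectrum.asIdeal (congrArg Subtype.val h))
  have hbc : b < c := lt_of_le_of_ne (IsLocalRing.le_maximalIdeal p.2.ne_top)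
    fun h => hpm (congrArg PrimeSpectrum.asIdeal (congrArg Subtype.val h))
  have hser := Order.LTSeries.length_le_krullDim
    (((RelSeries.singleton _ a).snoc b hab).snoc c (by simpa using hbc))
  exact absurd (hser.trans h) (by norm_num)

/-- There is a regular element on `A/f` whose quotient has first local cohomology killed by a power of the
maximal ideal. -/
theorem exists_parameter (hω : ∃ ω : Dual.D A, Dual.IsDualizing A ω) {f : A} (hf : f ∈ IsLocalRing.maximalIdeal A)
    (hnzd : f ∈ nonZeroDivisors A) (hdepth : (3 : ℕ∞) ≤ LocCoh.depth A A)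
    (h₄ : ∀ (p : Ideal A) [p.IsPrime], f ∈ p → ringKrullDim (A ⧸ p) = 2 →
      (2 : ℕ∞) ≤ LocCoh.depth (Localization.AtPrime p) (Localization.AtPrime p)) :
    ∃ x ∈ IsLocalRing.maximalIdeal A, IsSMulRegular (QuotSMulTop f A) x ∧
      ∃ k : ℕ, ∀ r ∈ IsLocalRing.maximalIdeal A ^ k,
        ∀ c : LocCoh.H (IsLocalRing.maximalIdeal A) 1 (QuotSMulTop x (QuotSMulTop f A)), r • c = 0 := by
  classical
  obtain ⟨ω, hω⟩ := hω
  let 𝔪 := IsLocalRing.maximalIdeal A
  let M := QuotSMulTop f A
  have hregA : IsSMulRegular A f := fun a b h => by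
    refine sub_eq_zero.1 ((mem_nonZeroDivisors_iff.1 hnzd).2 _ ?_)
    rw [mul_comm, mul_sub]
    exact sub_eq_zero.2 h
  let T := PrimeSpectrum.zeroLocus (𝔪 : Set A)
  let T' : Set (PrimeSpectrum A) := {p | ringKrullDim (A ⧸ p.asIdeal) ≤ 1}
  have hT : StableUnderSpecialization T := fun a b hab ha =>
    (PrimeSpectrum.mem_zeroLocus _ _).2 fun c hc => (PrimeSpectrum.le_iff_specializes a b).2 hab (ha hc)
  have hT' : StableUnderSpecialization T' := fun a b hab ha =>
    le_trans (ringKrullDim_le_of_surjective (Ideal.Quotient.factor ((PrimeSpectrum.le_iff_specializes a b).2 hab))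
      (Ideal.Quotient.factor_surjective _)) ha
  have hqm : ∀ q ∈ T, q.asIdeal = 𝔪 := fun q hq =>
    le_antisymm (IsLocalRing.le_maximalIdeal q.2.ne_top) hq
  obtain ⟨J, hJ, hk⟩ := (Groth.L04.AnnihDual.annihilator_iff hω T T' hT hT' 2 M).2 fun p q hp hq hpq => by
    refine lt_of_lt_of_le ?_ (add_le_add le_rfl (le_krullDim_Icc p q (hqm q hq)))
    have hd : (1 : WithBot ℕ∞) < ringKrullDim (A ⧸ p.asIdeal) := lt_of_not_ge hp
    by_cases hfp : f ∈ p.asIdeal
    · by_cases h3 : ringKrullDim (A ⧸ p.asIdeal) = 2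
      · refine lt_add_of_le (a := 1) (b := 2) ?_ (by rw [h3]; rfl) (by norm_num)
        refine le_depth_localized_quot p.asIdeal hfp hregA 1 ?_
        rw [Groth.L04.depth_localizedModule_self]
        exact_mod_cast h₄ p.asIdeal hfp h3
      · have h2 : ((2 : ℕ) : WithBot ℕ∞) ≤ ringKrullDim (A ⧸ p.asIdeal) := succ_natCast_le (n := 1) (by simpa using hd)
        exact lt_add_of_le (a := 0) (b := 3) (zero_le' ..)
          (succ_natCast_le (n := 2) (lt_of_le_of_ne h2 (Ne.symm h3))) (by norm_num)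
    · rw [depth_eq_top_of_notMem p.asIdeal hfp]
      exact lt_add_of_le (a := 3) (b := 1) le_top (by simpa using hd.le) (by norm_num)
  have hJT : ∀ q : PrimeSpectrum A, J ≤ q.asIdeal → ringKrullDim (A ⧸ q.asIdeal) ≤ 1 := fun q hq =>
    hJ ((PrimeSpectrum.mem_zeroLocus q _).2 hq)
  -- the parameter
  let bad : Set (Ideal A) := {p ∈ J.minimalPrimes | p ≠ 𝔪} ∪ associatedPrimes A M
  have hbad : bad.Finite :=
    ((Ideal.finite_minimalPrimes_of_isNoetherianRing A J).subset fun p hp => hp.1).union (associatedPrimes.finite A M)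
  have hbp : ∀ p ∈ bad, p.IsPrime ∧ ¬ 𝔪 ≤ p := fun p hp => by
    rcases hp with ⟨hp, hne⟩ | hp
    · exact ⟨hp.1.1, fun h => hne ((IsLocalRing.maximalIdeal.isMaximal A).eq_of_le hp.1.1.ne_top h).symm⟩
    · refine ⟨IsAssociatedPrime.isPrime hp, fun h => ?_⟩
      haveI : p.IsPrime := IsAssociatedPrime.isPrime hp
      have h2 : ((2 : ℕ) : ℕ∞) ≤ LocCoh.depth A M :=
        (Groth.L04.le_idealDepth_quotSMulTop_iff hf hregA 2).2 (by exact_mod_cast hdepth)
      have h3 := Groth.L04.natCast_le_depth_le_ringKrullDim_quotient 2 M p hp h2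
      rw [← (IsLocalRing.maximalIdeal.isMaximal A).eq_of_le (Ideal.IsPrime.ne_top ‹_›) h] at h3
      haveI := IsLocalRing.maximalIdeal.isMaximal A
      letI := Ideal.Quotient.field 𝔪
      rw [ringKrullDim_eq_zero_of_field] at h3
      exact absurd h3 (by norm_num)
  obtain ⟨x, hxm, hx⟩ : ∃ x ∈ 𝔪, ∀ p ∈ bad, x ∉ p := by
    by_contra hne
    simp only [not_exists, not_and, not_forall, not_not] at hne
    have hsub : (𝔪 : Set A) ⊆ ⋃ p ∈ (hbad.toFinset : Set (Ideal A)), (p : Set A) := fun a ha => by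
      obtain ⟨p, hp, hap⟩ := hne a ha
      exact Set.mem_biUnion (hbad.mem_toFinset.2 hp) hap
    obtain ⟨p, hp, hle⟩ := (Ideal.subset_union_prime (f := id) (⊥ : Ideal A) ⊥
      fun p hp _ _ => (hbp p (hbad.mem_toFinset.1 hp)).1).1 hsub
    exact (hbp p (hbad.mem_toFinset.1 hp)).2 hle
  have hxreg : IsSMulRegular M x := by
    by_contra hne
    have : x ∈ ⋃ p ∈ associatedPrimes A M, (p : Set A) := by
      rw [biUnion_associatedPrimes_eq_compl_regular A M]
      exact hne
    obtain ⟨p, hp, hxp⟩ := Set.mem_iUnion₂.1 this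
    exact hx p (Or.inr hp) hxp
  refine ⟨x, hxm, hxreg, ?_⟩
  -- the second application of the annihilator theorem
  obtain ⟨J₁, hJ₁, hk₁⟩ := (Groth.L04.AnnihDual.annihilator_iff hω T T hT hT 1 (QuotSMulTop x M)).2
    fun p q hp hq hpq => by
    have hpm : p.asIdeal ≠ 𝔪 := fun h => hp ((PrimeSpectrum.mem_zeroLocus _ _).2 h.ge)
    refine lt_of_lt_of_le ?_ (add_le_add le_rfl (le_krullDim_Icc p q (hqm q hq)))
    have hd := natCast_le_ringKrullDim_quotient p.asIdeal hpm
    by_cases hxp : x ∈ p.asIdeal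
    · by_cases hd1 : (1 : WithBot ℕ∞) < ringKrullDim (A ⧸ p.asIdeal)
      · exact lt_add_of_le (a := 0) (b := 2) (zero_le' ..) (succ_natCast_le (n := 1) (by simpa using hd1)) (by norm_num)
      · have hJp : ¬ J ≤ p.asIdeal := fun hle => by
          obtain ⟨p₀, hp₀, hle₀⟩ := Ideal.exists_minimalPrimes_le hle
          haveI : p₀.IsPrime := hp₀.1.1
          have hp₀m : p₀ ≠ 𝔪 := fun h => hpm (le_antisymm (IsLocalRing.le_maximalIdeal p.2.ne_top) (h ▸ hle₀))
          by_cases heq : p₀ = p.asIdeal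
          · exact hx p₀ (Or.inl ⟨hp₀, hp₀m⟩) (heq ▸ hxp)
          · exact eq_of_le_of_dim_le_one hle₀ hpm (hJT ⟨p₀, hp₀.1.1⟩ hp₀.1.2) |> heq
        -- hence depth at least two before cutting
        have h2 : (2 : WithBot ℕ∞) < ((LocCoh.depth (Localization.AtPrime p.asIdeal)
            (LocalizedModule p.asIdeal.primeCompl M) : ℕ∞) : WithBot ℕ∞) + Order.krullDim (Set.Icc p q) :=
          (Groth.L04.AnnihDual.annihilator_iff hω T (PrimeSpectrum.zeroLocus (J : Set A)) hT
            (fun a b hab ha => (PrimeSpectrum.mem_zeroLocus _ _).2 fun c hc =>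
              (PrimeSpectrum.le_iff_specializes a b).2 hab (ha hc)) 2 M).1
            ⟨J, subset_rfl, hk⟩ p q (fun h => hJp h) hq hpq
        have hIcc : Order.krullDim (Set.Icc p q) ≤ 1 := by
          refine le_trans ?_ (not_lt.1 hd1)
          rw [ringKrullDim_quotient]
          exact Order.krullDim_le_of_strictMono (fun r : Set.Icc p q =>
            (⟨r.1, r.2.1⟩ : PrimeSpectrum.zeroLocus (p.asIdeal : Set A))) fun a b h => h
        exact lt_add_of_le (a := 1) (b := 1)
          (le_depth_localized_quot p.asIdeal hxp hxreg 1 (natCast_le_of_lt_add_one hIcc h2))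
          (by simpa using hd) (by norm_num)
    · rw [depth_eq_top_of_notMem p.asIdeal hxp]
      exact lt_add_of_le (a := 1) (b := 1) le_top (by simpa using hd) (by norm_num)
  obtain ⟨e, he⟩ := Groth.L04.HTlocal.exists_pow_kills_H T J₁ 1
  obtain ⟨k, hk'⟩ : ∃ k, 𝔪 ^ k ≤ J₁ := by
    by_cases htop : J₁ = ⊤
    · exact ⟨0, htop ▸ le_top⟩
    refine Ideal.exists_pow_le_of_le_radical_of_fg ?_ (IsNoetherian.noetherian _)
    rw [Ideal.radical_eq_sInf]
    refine le_sInf fun q ⟨hle, hq⟩ => ?_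
    exact (hqm ⟨q, hq⟩ (hJ₁ ((PrimeSpectrum.mem_zeroLocus _ _).2 hle))).ge
  refine ⟨k * e, fun r hr c => he ⟨𝔪, fun q hq => hq⟩ 1 _ (fun j hj r' hr' => hk₁ j hj r' (by simpa using hr')) r ?_ c⟩
  rw [pow_mul] at hr
  rw [pow_one]
  exact Ideal.pow_right_mono hk' e hr

end Groth.L20.TorsPic
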