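import Groth.Agent.L20.TorsPic.RelLength

/-!
# Two-periodic Koszul complexes of a graded family of submodules of a ring
-/

set_option autoImplicit false
set_option linter.style.haveILetI false
universe u

noncomputable section

namespace Groth.L20.TorsPic

variable {A T T₀ : Type u} [CommRing A] [CommRing T] [Algebra A T] [CommRing T₀] [Algebra A T₀]

/-- A two-periodic complex over `T` with a grading compatible with the degrees `M`. -/
structure Cx (A : Type u) {T : Type u} [CommRing A] [CommRing T] [Algebra A T] (M : ℤ → Submodule A T) where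
  P : Type u
  Q : Type u
  [agP : AddCommGroup P]
  [agQ : AddCommGroup Q]
  [mAP : Module A P]
  [mAQ : Module A Q]
  [mTP : Module T P]
  [mTQ : Module T Q]
  [towP : IsScalarTower A T P]
  [towQ : IsScalarTower A T Q]
  d : P →ₗ[T] Q
  d' : Q →ₗ[T] P
  d'_d : ∀ p, d' (d p) = 0
  d_d' : ∀ q, d (d' q) = 0
  PD : ℤ → Submodule A P
  QD : ℤ → Submodule A Q
  d_mem : ∀ {j p}, p ∈ PD j → d p ∈ QD j
  d'_mem : ∀ {j q}, q ∈ QD j → d' q ∈ PD j
  smulP : ∀ {i j x p}, x ∈ M i → p ∈ PD j → x • p ∈ PD (i + j)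
  smulQ : ∀ {i j x q}, x ∈ M i → q ∈ QD j → x • q ∈ QD (i + j)

attribute [instance] Cx.agP Cx.agQ Cx.mAP Cx.mAQ Cx.mTP Cx.mTQ Cx.towP Cx.towQ

variable {M : ℤ → Submodule A T} {M₀ : ℤ → Submodule A T₀}

/-- Cycles. -/
def Cx.ZP (C : Cx A M) (j : ℤ) : Submodule A C.P :=
  C.PD j ⊓ LinearMap.ker (C.d.restrictScalars A)

def Cx.ZQ (C : Cx A M) (j : ℤ) : Submodule A C.Q :=
  C.QD j ⊓ LinearMap.ker (C.d'.restrictScalars A)

/-- Boundaries. -/
def Cx.BP (C : Cx A M) (j : ℤ) : Submodule A C.P := (C.QD j).map (C.d'.restrictScalars A)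

def Cx.BQ (C : Cx A M) (j : ℤ) : Submodule A C.Q := (C.PD j).map (C.d.restrictScalars A)

theorem Cx.BP_le (C : Cx A M) (j : ℤ) : C.BP j ≤ C.ZP j := by
  rintro _ ⟨q, hq, rfl⟩
  exact ⟨C.d'_mem hq, C.d_d' q⟩

theorem Cx.BQ_le (C : Cx A M) (j : ℤ) : C.BQ j ≤ C.ZQ j := by
  rintro _ ⟨p, hp, rfl⟩
  exact ⟨C.d_mem hp, C.d'_d p⟩

/-- The element kills homology in all degrees. -/
structure Cx.Killed (C : Cx A M) (a : T) : Prop where
  mem : a ∈ M 0
  onP : ∀ {j p}, p ∈ C.PD j → C.d p = 0 → ∃ q ∈ C.QD j, C.d' q = a • p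
  onQ : ∀ {j q}, q ∈ C.QD j → C.d' q = 0 → ∃ p ∈ C.PD j, C.d p = a • q

theorem Cx.smulP0 (C : Cx A M) {a : T} (ha : a ∈ M 0) {j : ℤ} {p : C.P} (hp : p ∈ C.PD j) :
    a • p ∈ C.PD j := by simpa using C.smulP ha hp

theorem Cx.smulQ0 (C : Cx A M) {a : T} (ha : a ∈ M 0) {j : ℤ} {q : C.Q} (hq : q ∈ C.QD j) :
    a • q ∈ C.QD j := by simpa using C.smulQ ha hq

/-- The complex concentrated in even degree. -/
def baseCx (hmul : ∀ {i j x y}, x ∈ M i → y ∈ M j → x * y ∈ M (i + j)) : Cx A M where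
  P := T
  Q := PUnit.{u + 1}
  d := 0
  d' := 0
  d'_d _ := rfl
  d_d' _ := rfl
  PD := M
  QD _ := ⊥
  d_mem _ := Submodule.zero_mem _
  d'_mem _ := Submodule.zero_mem _
  smulP := hmul
  smulQ _ _ := Submodule.mem_bot _ |>.2 rfl

/-- Multiplication by a degree one element, coned. -/
def Cx.cone (C : Cx A M) (t : T) (ht : t ∈ M 1) : Cx A M where
  P := C.P × C.Q
  Q := C.Q × C.P
  d :=
    { toFun := fun z => (C.d z.1, t • z.1 - C.d' z.2)
      map_add' := fun z w => by simp only [Prod.fst_add, Prod.snd_add, map_add, smul_add, Prod.mk_add_mk]; abel_nf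
      map_smul' := fun a z => by
        simp only [Prod.smul_fst, Prod.smul_snd, map_smul, Prod.smul_mk, RingHom.id_apply, smul_sub, smul_comm a t] }
  d' :=
    { toFun := fun z => (C.d' z.1, t • z.1 - C.d z.2)
      map_add' := fun z w => by simp only [Prod.fst_add, Prod.snd_add, map_add, smul_add, Prod.mk_add_mk]; abel_nf
      map_smul' := fun a z => by
        simp only [Prod.smul_fst, Prod.smul_snd, map_smul, Prod.smul_mk, RingHom.id_apply, smul_sub, smul_comm a t] }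
  d'_d z := by
    simp only [LinearMap.coe_mk, AddHom.coe_mk, C.d'_d, map_sub, map_smul, C.d_d', sub_zero, sub_self]
    rfl
  d_d' z := by
    simp only [LinearMap.coe_mk, AddHom.coe_mk, C.d_d', map_sub, map_smul, C.d'_d, sub_zero, sub_self]
    rfl
  PD j := (C.PD j).prod (C.QD (j + 1))
  QD j := (C.QD j).prod (C.PD (j + 1))
  d_mem {j z} hz := ⟨C.d_mem hz.1, (C.PD _).sub_mem (by simpa [add_comm] using C.smulP ht hz.1) (C.d'_mem hz.2)⟩
  d'_mem {j z} hz := ⟨C.d'_mem hz.1, (C.QD _).sub_mem (by simpa [add_comm] using C.smulQ ht hz.1) (C.d_mem hz.2)⟩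
  smulP {i j x z} hx hz := ⟨C.smulP hx hz.1, by simpa [add_assoc] using C.smulQ hx hz.2⟩
  smulQ {i j x z} hx hz := ⟨C.smulQ hx hz.1, by simpa [add_assoc] using C.smulP hx hz.2⟩

theorem Cx.cone_d (C : Cx A M) {t : T} (ht : t ∈ M 1) (a : C.P) (b : C.Q) :
    (C.cone t ht).d (a, b) = (C.d a, t • a - C.d' b) := rfl

theorem Cx.cone_d' (C : Cx A M) {t : T} (ht : t ∈ M 1) (a : C.Q) (b : C.P) :
    (C.cone t ht).d' (a, b) = (C.d' a, t • a - C.d b) := rfl

theorem Cx.Killed.cone_self (C : Cx A M) {t c : T} (ht : t ∈ M 1) (hc : c ∈ M (-1)) (hm : c * t ∈ M 0) :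
    (C.cone t ht).Killed (c * t) := by
  refine ⟨hm, fun {j z} hz hd => ?_, fun {j z} hz hd => ?_⟩
  · obtain ⟨x, y⟩ := z
    rw [C.cone_d ht] at hd
    have h2 : t • x = C.d' y := sub_eq_zero.1 (congrArg Prod.snd hd)
    refine ⟨(c • y, 0), ⟨by simpa using C.smulQ hc hz.2, Submodule.zero_mem _⟩, ?_⟩
    rw [C.cone_d' ht, map_smul, ← h2, map_zero, sub_zero, smul_smul, smul_smul, mul_comm t c]
    rfl
  · obtain ⟨x, y⟩ := z
    rw [C.cone_d' ht] at hd
    have h2 : t • x = C.d y := sub_eq_zero.1 (congrArg Prod.snd hd)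
    refine ⟨(c • y, 0), ⟨by simpa using C.smulP hc hz.2, Submodule.zero_mem _⟩, ?_⟩
    rw [C.cone_d ht, map_smul, ← h2, map_zero, sub_zero, smul_smul, smul_smul, mul_comm t c]
    rfl

theorem Cx.Killed.cone {C : Cx A M} {a : T} (h : C.Killed a) {t : T} (ht : t ∈ M 1) (hm : a * a ∈ M 0) :
    (C.cone t ht).Killed (a * a) := by
  refine ⟨hm, fun {j z} hz hd => ?_, fun {j z} hz hd => ?_⟩
  · obtain ⟨x, y⟩ := z
    rw [C.cone_d ht] at hd
    have h2 : t • x = C.d' y := sub_eq_zero.1 (congrArg Prod.snd hd)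
    obtain ⟨q, hq, hqe⟩ := h.onP hz.1 (congrArg Prod.fst hd)
    have hz' : a • y - t • q ∈ C.QD (j + 1) :=
      (C.QD _).sub_mem (C.smulQ0 h.mem hz.2) (by simpa [add_comm] using C.smulQ ht hq)
    obtain ⟨p, hp, hpe⟩ := h.onQ hz' (by
      rw [map_sub, map_smul, map_smul, hqe, ← h2, smul_smul, smul_smul, mul_comm t a, sub_self])
    refine ⟨(a • q, -p), ⟨C.smulQ0 h.mem hq, (C.PD _).neg_mem hp⟩, ?_⟩
    rw [C.cone_d' ht, map_smul, hqe, map_neg, sub_neg_eq_add, hpe, smul_sub, smul_smul, smul_smul, smul_smul,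
      smul_smul, mul_comm t a, add_sub_cancel]
    rfl
  · obtain ⟨x, y⟩ := z
    rw [C.cone_d' ht] at hd
    have h2 : t • x = C.d y := sub_eq_zero.1 (congrArg Prod.snd hd)
    obtain ⟨q, hq, hqe⟩ := h.onQ hz.1 (congrArg Prod.fst hd)
    have hz' : a • y - t • q ∈ C.PD (j + 1) :=
      (C.PD _).sub_mem (C.smulP0 h.mem hz.2) (by simpa [add_comm] using C.smulP ht hq)
    obtain ⟨p, hp, hpe⟩ := h.onP hz' (by
      rw [map_sub, map_smul, map_smul, hqe, ← h2, smul_smul, smul_smul, mul_comm t a, sub_self])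
    refine ⟨(a • q, -p), ⟨C.smulP0 h.mem hq, (C.QD _).neg_mem hp⟩, ?_⟩
    rw [C.cone_d ht, map_smul, hqe, map_neg, sub_neg_eq_add, hpe, smul_sub, smul_smul, smul_smul, smul_smul,
      smul_smul, mul_comm t a, add_sub_cancel]
    rfl

/-- A morphism of complexes over a morphism of rings. -/
structure CxHom (C : Cx A M) (C₀ : Cx A M₀) (π : T →ₐ[A] T₀) where
  onP : C.P →ₗ[A] C₀.P
  onQ : C.Q →ₗ[A] C₀.Q
  comm : ∀ p, onQ (C.d p) = C₀.d (onP p)
  comm' : ∀ q, onP (C.d' q) = C₀.d' (onQ q)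
  smulP : ∀ (x : T) p, onP (x • p) = π x • onP p
  smulQ : ∀ (x : T) q, onQ (x • q) = π x • onQ q

/-- The morphism of the complexes in even degree. -/
def baseHom (π : T →ₐ[A] T₀) (hmul : ∀ {i j x y}, x ∈ M i → y ∈ M j → x * y ∈ M (i + j))
    (hmul₀ : ∀ {i j x y}, x ∈ M₀ i → y ∈ M₀ j → x * y ∈ M₀ (i + j)) :
    CxHom (baseCx (A := A) (M := M) hmul) (baseCx (A := A) (M := M₀) hmul₀) π where
  onP := π.toLinearMap
  onQ := (0 : PUnit.{u + 1} →ₗ[A] PUnit.{u + 1})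
  comm _ := rfl
  comm' _ := π.map_zero
  smulP x p := π.map_mul x p
  smulQ _ _ := rfl

/-- The coned morphism. -/
def CxHom.cone {C : Cx A M} {C₀ : Cx A M₀} {π : T →ₐ[A] T₀} (φ : CxHom C C₀ π) {t : T} (ht : t ∈ M 1)
    (ht₀ : π t ∈ M₀ 1) : CxHom (C.cone t ht) (C₀.cone (π t) ht₀) π where
  onP := φ.onP.prodMap φ.onQ
  onQ := φ.onQ.prodMap φ.onP
  comm := fun ⟨a, b⟩ => by
    show (φ.onQ (C.d a), φ.onP (t • a - C.d' b)) = (C₀.d (φ.onP a), π t • φ.onP a - C₀.d' (φ.onQ b))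
    rw [map_sub, φ.smulP, φ.comm, φ.comm']
  comm' := fun ⟨a, b⟩ => by
    show (φ.onP (C.d' a), φ.onQ (t • a - C.d b)) = (C₀.d' (φ.onQ a), π t • φ.onQ a - C₀.d (φ.onP b))
    rw [map_sub, φ.smulQ, φ.comm', φ.comm]
  smulP x z := Prod.ext (φ.smulP x z.1) (φ.smulQ x z.2)
  smulQ x z := Prod.ext (φ.smulQ x z.1) (φ.smulP x z.2)

end Groth.L20.TorsPic
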