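import Groth.Agent.L20.TorsPic.Bound
import Groth.Agent.L22.PicGlue.Cocycle
import Groth.Agent.L20.TorsPic.Regular
import Groth.Agent.L20.TorsPic.Kills
import Groth.Agent.L18.GenLocus
import Groth.Agent.L18.SecTwistExtend
import Groth.Agent.L16.QcqsPush
import Groth.Agent.L21.Extend.Semilocal
import Groth.Prelude.Def_Formal2
import Groth.Prelude.Def_FEt
import Groth.Prelude.Def_CohB1

/-!
# Invertible modules on a punctured spectrum which are trivial modulo a regular element
-/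

set_option autoImplicit false
set_option linter.style.haveILetI false
set_option backward.isDefEq.respectTransparency.types false
set_option backward.isDefEq.respectTransparency false
universe u

open CategoryTheory AlgebraicGeometry TopologicalSpace Opposite
open Groth.L18.Frame (rs ro rs_rs rs_self rs_smul ro_ro ro_self IsFrame pull pull_smul pull_rs)
open Groth.L18.SecTwistExt (epow epow_smul epow_rs)
open Groth.L18.GenLoc (secOf)

noncomputable section

namespace Groth.L20.TorsPic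

section Sections

variable {Y : Scheme.{u}} {M N : Y.Modules}

theorem app_rs (φ : M ⟶ N) {U V : Y.Opens} (h : V ≤ U) (s : Γ(M, U)) :
    rs N h (φ.app U s) = φ.app V (rs M h s) :=
  congr($(φ.mapPresheaf.naturality (homOfLE h).op) s).symm

theorem isFrame_app (φ : M ≅ N) {W : Y.Opens} {e : Γ(M, W)} (he : IsFrame M W e) :
    IsFrame N W (φ.hom.app W e) := fun V h => by
  rw [show (fun a : Γ(Y, V) => a • rs N h (φ.hom.app W e)) = φ.hom.app V ∘ fun a => a • rs M h e from
    funext fun a => by rw [Function.comp_apply, app_rs, Scheme.Modules.Hom.app_smul]]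
  exact (ConcreteCategory.bijective_of_isIso (φ.hom.app V)).comp (he V h)

theorem isFrame_one : IsFrame (Coh.structureModule Y) ⊤ (1 : Γ(Y, ⊤)) := fun V h => by
  rw [Groth.L18.SecTwistExt.rs_one h]
  exact ⟨fun (a b : Γ(Y, V)) hab => by
      have ha : a * 1 = b * 1 := hab
      rwa [mul_one, mul_one] at ha,
    fun (b : Γ(Y, V)) => ⟨b, mul_one b⟩⟩

theorem isFrame_epow {W : Y.Opens} {ε : Γ(M, W)} (hε : IsFrame M W ε) :
    ∀ n, IsFrame (CohB1.tensorPow M n) W (epow ε n)
  | 0 => by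
    have := (isFrame_one (Y := Y)).mono (le_top : W ≤ ⊤)
    rwa [Groth.L18.SecTwistExt.rs_one le_top] at this
  | n + 1 => Groth.L18.GenLoc.isFrame_tens (isFrame_epow hε n) hε

theorem isUnit_of_frame_structure {W : Y.Opens} {a : Γ(Y, W)} (ha : IsFrame (Coh.structureModule Y) W a) :
    IsUnit a := by
  obtain ⟨b, hb⟩ := ha.exists_coeff le_rfl (1 : Γ(Y, W))
  rw [rs_self] at hb
  have hb' : b * a = 1 := hb
  exact IsUnit.of_mul_eq_one b ((mul_comm a b).trans hb')

theorem sections_eq_of_bot {V : Y.Opens} (hV : ∀ y, y ∉ V) (s t : Γ(M, V)) : s = t :=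
  Groth.L21.Extend.eq_of_locally M s t fun y hy => absurd hy (hV y)

theorem nonempty_iso_of_frame {σ : Γ(M, ⊤)} (h : IsFrame M ⊤ σ) :
    Nonempty (M ≅ Coh.structureModule Y) := by
  let s := Groth.L16.homOfSection M σ
  have hs : secOf s = σ := Groth.L18.GenLoc.secOf_homOfSection σ
  haveI : IsIso s := Scheme.Modules.Hom.isIso_iff_isIso_app.2 fun V => by
    refine (ConcreteCategory.isIso_iff_bijective _).2 ?_
    rw [show ((s.app V : _ → Γ(M, V))) = fun r : Γ(Y, V) => r • rs M le_top σ from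
      funext fun r => (Groth.L18.GenLoc.app_eq s V r).trans (by rw [hs])]
    exact h V le_top
  exact ⟨(asIso s).symm⟩

end Sections

variable {A : Type u} [CommRing A]

/-- The algebra map to sections over an open of an open subscheme of the spectrum. -/
def toSec (U : (Spec (CommRingCat.of A)).Opens) (V : (↑U : Scheme.{u}).Opens) :
    A →+* Γ(↑U, V) :=
  ((↑U : Scheme.{u}).presheaf.map (homOfLE (le_top : V ≤ ⊤)).op).hom.comp
    (((Scheme.ΓSpecIso (CommRingCat.of A)).inv ≫ U.ι.appTop).hom)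

theorem ro_toSec (U : (Spec (CommRingCat.of A)).Opens) {V V' : (↑U : Scheme.{u}).Opens} (h : V' ≤ V) (a : A) :
    ro h (toSec U V a) = toSec U V' a := ro_ro _ _ _

theorem toSec_eq (U : (Spec (CommRingCat.of A)).Opens) (V : (↑U : Scheme.{u}).Opens) (a : A) :
    toSec U V a = (Spec (CommRingCat.of A)).presheaf.map (homOfLE (le_top : U.ι ''ᵁ V ≤ ⊤)).op
      ((Scheme.ΓSpecIso (CommRingCat.of A)).inv a) := by
  show (U.ι.appTop ≫ (↑U : Scheme.{u}).presheaf.map (homOfLE (le_top : V ≤ ⊤)).op)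
    ((Scheme.ΓSpecIso (CommRingCat.of A)).inv a) = _
  have h : U.ι.appTop ≫ (↑U : Scheme.{u}).presheaf.map (homOfLE (le_top : V ≤ ⊤)).op =
      (Spec (CommRingCat.of A)).presheaf.map (homOfLE (le_top : U.ι ''ᵁ V ≤ ⊤)).op := by
    rw [Scheme.Opens.ι_appTop, Scheme.Opens.toScheme_presheaf_map, ← Functor.map_comp]
    rfl
  exact congr($h ((Scheme.ΓSpecIso (CommRingCat.of A)).inv a))

theorem isLocalization_toSec (U : (Spec (CommRingCat.of A)).Opens) (V : (↑U : Scheme.{u}).Opens) (g : A)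
    (hV : U.ι ''ᵁ V = PrimeSpectrum.basicOpen g) :
    @IsLocalization.Away A _ g Γ(↑U, V) _ (toSec U V).toAlgebra := by
  let X := Spec (CommRingCat.of A)
  let e := (Scheme.ΓSpecIso (CommRingCat.of A))
  have hb : U.ι ''ᵁ V = X.basicOpen (e.inv g) := by
    rw [hV]
    exact (basicOpen_eq_of_affine (R := CommRingCat.of A) g).symm
  have h1 := (isAffineOpen_top X).isLocalization_of_eq_basicOpen (e.inv g)
    (homOfLE (le_top : U.ι ''ᵁ V ≤ ⊤)) hb
  letI : Algebra Γ(X, ⊤) Γ(↑U, V) := (X.presheaf.map (homOfLE (le_top : U.ι ''ᵁ V ≤ ⊤)).op).hom.toAlgebra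
  haveI : IsLocalization.Away (e.inv g) Γ(↑U, V) := h1
  have h2 := IsLocalization.isLocalization_of_base_ringEquiv (Submonoid.powers (e.inv g)) Γ(↑U, V)
    e.commRingCatIsoToRingEquiv
  rw [Submonoid.map_powers] at h2
  rw [IsLocalization.Away]
  convert h2 using 1
  · show Submonoid.powers g = Submonoid.powers _
    congr 1
    exact (e.inv_hom_id_apply g).symm
  · refine Algebra.algebra_ext _ _ fun a => ?_
    exact toSec_eq U V a

/-- Functions vanishing on the closed subscheme cut out by `f`. -/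
theorem mem_span_of_app_eq (f : A) (U : (Spec (CommRingCat.of A)).Opens) (V : (↑U : Scheme.{u}).Opens)
    (hV : IsAffineOpen V) (a : Γ(↑U, V)) (ha : (Formal2.specQuotMap A f ∣_ U).app V a = 0) :
    a ∈ (Ideal.span {f}).map (toSec U V) := by
  let X := Spec (CommRingCat.of A)
  let q := Formal2.specQuotMap A f
  let e := Scheme.ΓSpecIso (CommRingCat.of A)
  haveI : IsClosedImmersion q := IsClosedImmersion.spec_of_surjective _ Ideal.Quotient.mk_surjective
  have hV' : IsAffineOpen (U.ι ''ᵁ V) := hV.image_of_isOpenImmersion U.ι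
  have h0 : q.app (U.ι ''ᵁ V) a = 0 := by
    rw [morphismRestrict_app] at ha
    exact (ConcreteCategory.bijective_of_isIso _).1 ((CommRingCat.comp_apply _ _ _).symm.trans ha |>.trans
      (map_zero _).symm)
  have hmem : (show Γ(X, U.ι ''ᵁ V) from a) ∈ q.ker.ideal ⟨U.ι ''ᵁ V, hV'⟩ := by
    rw [Scheme.Hom.ker_apply, RingHom.mem_ker]
    exact h0
  rw [← q.ker.map_ideal (U := ⟨U.ι ''ᵁ V, hV'⟩) (V := ⟨⊤, isAffineOpen_top X⟩)
    (show U.ι ''ᵁ V ≤ ⊤ from le_top)] at hmem
  have hker : q.ker.ideal ⟨⊤, isAffineOpen_top X⟩ ≤ (Ideal.span {f}).map e.inv.hom := by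
    intro z hz
    rw [Scheme.Hom.ker_apply, RingHom.mem_ker] at hz
    have hn := congr($(Scheme.ΓSpecIso_naturality (CommRingCat.ofHom (Ideal.Quotient.mk (Ideal.span {f})))) z)
    have hz0 : Ideal.Quotient.mk (Ideal.span {f}) (e.hom z) = 0 := by
      refine hn.symm.trans ?_
      show (Scheme.ΓSpecIso _).hom (q.app ⊤ z) = 0
      rw [show q.app ⊤ z = 0 from hz]
      exact map_zero _
    rw [← e.hom_inv_id_apply z]
    exact Ideal.mem_map_of_mem _ (Ideal.Quotient.eq_zero_iff_mem.1 hz0)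
  have := Ideal.map_mono hker hmem
  rw [Ideal.map_map] at this
  rw [show toSec U V = ((Spec (CommRingCat.of A)).presheaf.map (homOfLE (le_top : U.ι ''ᵁ V ≤ ⊤)).op).hom.comp
    (Scheme.ΓSpecIso (CommRingCat.of A)).inv.hom from RingHom.ext fun x => toSec_eq U V x]
  exact this

/-- A chart of the punctured spectrum. -/
abbrev chart (U : (Spec (CommRingCat.of A)).Opens) (g : A) : (↑U : Scheme.{u}).Opens :=
  U.ι ⁻¹ᵁ PrimeSpectrum.basicOpen g

theorem image_chart (U : (Spec (CommRingCat.of A)).Opens) {g : A} (hg : PrimeSpectrum.basicOpen g ≤ U) :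
    U.ι ''ᵁ chart U g = PrimeSpectrum.basicOpen g := by
  rw [Scheme.Hom.image_preimage_eq_opensRange_inf, Scheme.Opens.opensRange_ι, inf_eq_right]
  exact hg

theorem image_chart_inf (U : (Spec (CommRingCat.of A)).Opens) {g g' : A} (hg : PrimeSpectrum.basicOpen g ≤ U) :
    U.ι ''ᵁ (chart U g ⊓ chart U g') = PrimeSpectrum.basicOpen (g * g') := by
  rw [PrimeSpectrum.basicOpen_mul, ← Scheme.Hom.preimage_inf,
    Scheme.Hom.image_preimage_eq_opensRange_inf, Scheme.Opens.opensRange_ι, inf_eq_right]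
  exact inf_le_left.trans hg

theorem isAffineOpen_of_image (U : (Spec (CommRingCat.of A)).Opens) (V : (↑U : Scheme.{u}).Opens) {g : A}
    (h : U.ι ''ᵁ V = PrimeSpectrum.basicOpen g) : IsAffineOpen V := by
  refine (Scheme.Opens.ι U).isAffineOpen_iff_of_isOpenImmersion.1 ?_
  rw [h]
  exact (basicOpen_eq_of_affine (R := CommRingCat.of A) g) ▸ (isAffineOpen_top _).basicOpen _

/-- Global sections of an invertible module with frames on charts, in coordinates. -/
theorem exists_extended_tuple [IsNoetherianRing A] {U : (Spec (CommRingCat.of A)).Opens} {ι : Type u} (g : ι → A)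
    {M : (↑U : Scheme.{u}).Modules} (hM : PicF.IsInvertible M)
    (e : ∀ l, Γ(M, chart U (g l))) (he : ∀ l, IsFrame M (chart U (g l)) (e l))
    (u : ∀ l k, Γ(↑U, chart U (g l) ⊓ chart U (g k)))
    (hu : ∀ l k, u l k • rs M (inf_le_left : chart U (g l) ⊓ chart U (g k) ≤ chart U (g l)) (e l) =
      rs M (inf_le_right : chart U (g l) ⊓ chart U (g k) ≤ chart U (g k)) (e k)) (l : ι) :
    ∃ t : ∀ k, Γ(↑U, chart U (g k)), IsUnit (t l) ∧ ∀ m k,
      ro (inf_le_left : chart U (g m) ⊓ chart U (g k) ≤ chart U (g m)) (t m) =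
        u m k * ro (inf_le_right : chart U (g m) ⊓ chart U (g k) ≤ chart U (g k)) (t k) := by
  let Y : Scheme.{u} := ↑U
  haveI : NoetherianSpace Y := U.ι.isOpenEmbedding.isInducing.noetherianSpace
  haveI : Coh.IsQCoh M := Groth.L21.Extend.isQCoh_of_isInvertible hM
  let N : ι → Y.Opens := fun l => chart U (g l)
  have hb : Y.basicOpen (toSec U ⊤ (g l)) = N l := by
    show Y.basicOpen _ = U.ι ⁻¹ᵁ PrimeSpectrum.basicOpen (g l)
    rw [← basicOpen_eq_of_affine (R := CommRingCat.of A) (g l), Scheme.preimage_basicOpen_top]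
    congr 1
  obtain ⟨K, T, hT⟩ := Groth.L16.QcqsPush.exists_pow_smul_eq_res M (U := ⊤) CompactSpace.isCompact_univ
    (isQuasiSeparated_univ_iff.2 inferInstance) (toSec U ⊤ (g l)) (rs M hb.le (e l))
  choose t ht using fun k => (he k).exists_coeff le_rfl (rs M (le_top : N k ≤ ⊤) T)
  simp only [rs_self] at ht
  refine ⟨t, ?_, fun m k => (he m).inj inf_le_left ?_⟩
  · have h := congrArg (rs M hb.ge) hT
    rw [rs_rs, rs_smul, rs_rs, rs_self, ro_ro, ← ht l] at h
    have h' : t l • rs M le_rfl (e l) = ro (le_top : N l ≤ ⊤) (toSec U ⊤ (g l) ^ K) • rs M le_rfl (e l) := by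
      rw [rs_self]; exact h
    have hpw : ro (le_top : N l ≤ ⊤) (toSec U ⊤ (g l) ^ K) = toSec U (N l) (g l) ^ K :=
      (map_pow (Y.presheaf.map (homOfLE (le_top : N l ≤ ⊤)).op).hom _ _).trans
        (congrArg (· ^ K) (ro_toSec U le_top (g l)))
    rw [(he l).inj le_rfl h', hpw]
    refine IsUnit.pow _ ?_
    have hX : (Scheme.Opens.ι U).appTop ((Scheme.ΓSpecIso (CommRingCat.of A)).inv (g l)) = toSec U ⊤ (g l) :=
      (congr($((↑U : Scheme.{u}).presheaf.map_id (op ⊤))
        ((Scheme.Opens.ι U).appTop ((Scheme.ΓSpecIso (CommRingCat.of A)).inv (g l))))).symm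
    have := RingedSpace.isUnit_res_basicOpen Y.toRingedSpace (toSec U ⊤ (g l))
    have h2 := this.map (Y.presheaf.map (homOfLE hb.ge).op).hom
    rw [show toSec U (N l) (g l) = ro hb.ge (ro (Y.basicOpen_le _) (toSec U ⊤ (g l))) from
      ((ro_ro _ _ _).trans (ro_toSec U _ (g l))).symm]
    exact h2
  · have hm := congrArg (rs M (inf_le_left : N m ⊓ N k ≤ N m)) (ht m)
    have hk := congrArg (rs M (inf_le_right : N m ⊓ N k ≤ N k)) (ht k)
    simp only [rs_smul, rs_rs] at hm hk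
    rw [hm, mul_comm, mul_smul, hu, hk]

/-- Frames of a module trivial modulo `f`, compatible modulo `f`. -/
structure ChartData [IsLocalRing A] (f : A) (L : (↑(FEt.puncturedSpec A) : Scheme.{u}).Modules) where
  ι : Type u
  [fin : Fintype ι]
  g : ι → A
  hU : ∀ l, PrimeSpectrum.basicOpen (g l) ≤ FEt.puncturedSpec A
  cov : ∀ y : (↑(FEt.puncturedSpec A) : Scheme.{u}), ∃ l, y ∈ chart (FEt.puncturedSpec A) (g l)
  e : ∀ l, Γ(L, chart (FEt.puncturedSpec A) (g l))
  he : ∀ l, IsFrame L (chart (FEt.puncturedSpec A) (g l)) (e l)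
  u : ∀ l k, Γ(↑(FEt.puncturedSpec A), chart (FEt.puncturedSpec A) (g l) ⊓ chart (FEt.puncturedSpec A) (g k))
  u_spec : ∀ l k, u l k • rs L (inf_le_left :
      chart (FEt.puncturedSpec A) (g l) ⊓ chart (FEt.puncturedSpec A) (g k) ≤ chart (FEt.puncturedSpec A) (g l)) (e l) =
    rs L (inf_le_right :
      chart (FEt.puncturedSpec A) (g l) ⊓ chart (FEt.puncturedSpec A) (g k) ≤ chart (FEt.puncturedSpec A) (g k)) (e k)
  u_congr : ∀ l k, u l k - 1 ∈ (Ideal.span {f}).map (toSec (FEt.puncturedSpec A)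
    (chart (FEt.puncturedSpec A) (g l) ⊓ chart (FEt.puncturedSpec A) (g k)))

attribute [instance] ChartData.fin

theorem nonempty_chartData [IsLocalRing A] [IsNoetherianRing A] (f : A)
    (L : (↑(FEt.puncturedSpec A) : Scheme.{u}).Modules) (hL : PicF.IsInvertible L)
    (ψ : (Scheme.Modules.pullback (Formal2.specQuotMap A f ∣_ FEt.puncturedSpec A)).obj L ≅
      Coh.structureModule _) :
    Nonempty (ChartData f L) := by
  classical
  let X := Spec (CommRingCat.of A)
  let U : X.Opens := FEt.puncturedSpec A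
  let Y : Scheme.{u} := ↑U
  let i := Formal2.specQuotMap A f ∣_ U
  haveI : IsClosedImmersion (Formal2.specQuotMap A f) :=
    IsClosedImmersion.spec_of_surjective _ Ideal.Quotient.mk_surjective
  haveI : IsClosedImmersion i := IsZariskiLocalAtTarget.restrict (P := @IsClosedImmersion) inferInstance U
  let P := (Scheme.Modules.pullback i).obj L
  -- the frame downstairs
  let σ₀ : Γ(P, ⊤) := ψ.inv.app ⊤ (1 : Γ(↑(Formal2.specQuotMap A f ⁻¹ᵁ U), ⊤))
  have hσ₀ : IsFrame P ⊤ σ₀ := isFrame_app ψ.symm isFrame_one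
  -- charts
  have himg : ∀ g : A, PrimeSpectrum.basicOpen g ≤ U →
      U.ι ''ᵁ (U.ι ⁻¹ᵁ PrimeSpectrum.basicOpen g) = PrimeSpectrum.basicOpen g := fun g hg => by
    rw [Scheme.Hom.image_preimage_eq_opensRange_inf, Scheme.Opens.opensRange_ι, inf_eq_right]
    exact hg
  have hloc : ∀ y : Y, ∃ (g : A) (e : Γ(L, U.ι ⁻¹ᵁ PrimeSpectrum.basicOpen g)),
      PrimeSpectrum.basicOpen g ≤ U ∧ y ∈ U.ι ⁻¹ᵁ PrimeSpectrum.basicOpen g ∧
      IsFrame L _ e ∧ pull i L _ e = rs P le_top σ₀ := by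
    intro y
    have small : ∀ W : Y.Opens, y ∈ W → ∃ g : A, PrimeSpectrum.basicOpen g ≤ U ∧
        y ∈ U.ι ⁻¹ᵁ PrimeSpectrum.basicOpen g ∧ U.ι ⁻¹ᵁ PrimeSpectrum.basicOpen g ≤ W := by
      intro W hW
      obtain ⟨_, ⟨_, ⟨g, rfl⟩, rfl⟩, hyg, hgW⟩ := PrimeSpectrum.isBasis_basic_opens.exists_subset_of_mem_open
        (show U.ι y ∈ U.ι ''ᵁ W from ⟨y, hW, rfl⟩) (U.ι ''ᵁ W).2
      refine ⟨g, fun z hz => ?_, hyg, fun z hz => ?_⟩
      · obtain ⟨w, -, rfl⟩ := hgW hz
        exact w.2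
      · obtain ⟨w, hw, hwz⟩ := hgW hz
        exact U.ι.isOpenEmbedding.injective hwz ▸ hw
    obtain ⟨W₀, e₀, hy₀, he₀⟩ := Groth.L18.Frame.exists_frame hL y
    by_cases hy : y ∈ Set.range i
    · obtain ⟨y₀, rfl⟩ := hy
      obtain ⟨g, hg, hyg, hgW⟩ := small W₀ hy₀
      let N := U.ι ⁻¹ᵁ PrimeSpectrum.basicOpen g
      have hN : IsAffineOpen N := by
        refine (Scheme.Opens.ι U).isAffineOpen_iff_of_isOpenImmersion.1 ?_
        rw [himg g hg]
        exact (basicOpen_eq_of_affine (R := CommRingCat.of A) g) ▸ (isAffineOpen_top X).basicOpen _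
      have hp : IsFrame P (i ⁻¹ᵁ N) (pull i L N (rs L hgW e₀)) := (he₀.mono hgW).pullback i L
      obtain ⟨w, hw⟩ := hp.exists_coeff le_rfl (rs P le_top σ₀)
      rw [rs_self] at hw
      have hwu : IsUnit w := Groth.L18.Frame.isUnit_of_isFrame hp (hw ▸ hσ₀.mono le_top)
      obtain ⟨a, ha⟩ := i.app_surjective N hN w
      have hya : i y₀ ∈ Y.basicOpen a := by
        have h2 : y₀ ∈ (↑(Formal2.specQuotMap A f ⁻¹ᵁ U) : Scheme.{u}).basicOpen (i.app N a) := by
          rw [ha]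
          exact (Scheme.mem_basicOpen _ w y₀ hyg).2 (hwu.map _)
        rw [← Scheme.preimage_basicOpen] at h2
        exact h2
      obtain ⟨g', hg', hyg', hgW'⟩ := small (Y.basicOpen a) hya
      have hle : U.ι ⁻¹ᵁ PrimeSpectrum.basicOpen g' ≤ N := hgW'.trans (Y.basicOpen_le a)
      refine ⟨g', ro hle a • rs L (hle.trans hgW) e₀, hg', hyg', (he₀.mono _).smul_unit ?_, ?_⟩
      · have := (RingedSpace.isUnit_res_basicOpen Y.toRingedSpace a).map (Y.presheaf.map (homOfLE hgW').op).hom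
        rw [show ro hle a = ro hgW' (ro (Y.basicOpen_le a) a) from (ro_ro _ _ _).symm]
        exact this
      · have h := congrArg (rs P (i.preimage_mono hle)) hw
        rw [← ha, ← pull_smul, pull_rs, rs_smul, rs_rs, rs_rs] at h
        exact h
    · obtain ⟨g, hg, hyg, hgW⟩ := small (W₀ ⊓ ⟨(Set.range i)ᶜ, i.isClosedEmbedding.isClosed_range.isOpen_compl⟩)
        ⟨hy₀, hy⟩
      exact ⟨g, rs L (fun z hz => (hgW hz).1) e₀, hg, hyg, he₀.mono _,
        sections_eq_of_bot (fun z hz => (hgW (show i z ∈ _ from hz)).2 ⟨z, rfl⟩) _ _⟩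
  choose g₀ e₀ hg₀ hy₀ he₀ hpull₀ using hloc
  haveI : NoetherianSpace Y := U.ι.isOpenEmbedding.isInducing.noetherianSpace
  obtain ⟨s, hs⟩ := CompactSpace.isCompact_univ.elim_finite_subcover
    (fun y : Y => ((U.ι ⁻¹ᵁ PrimeSpectrum.basicOpen (g₀ y) : Y.Opens) : Set Y))
    (fun y => (U.ι ⁻¹ᵁ PrimeSpectrum.basicOpen (g₀ y)).2) (fun y _ => Set.mem_iUnion.2 ⟨y, hy₀ y⟩)
  let ι := {y : Y // y ∈ s}
  let g : ι → A := fun l => g₀ l.1
  let N : ι → Y.Opens := fun l => U.ι ⁻¹ᵁ PrimeSpectrum.basicOpen (g l)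
  let e : ∀ l, Γ(L, N l) := fun l => e₀ l.1
  have he : ∀ l, IsFrame L (N l) (e l) := fun l => he₀ l.1
  have hcov : ∀ y : Y, ∃ l, y ∈ N l := fun y => by
    obtain ⟨z, hzs, hz⟩ := Set.mem_iUnion₂.1 (hs (Set.mem_univ y))
    exact ⟨⟨z, hzs⟩, hz⟩
  have hN₂img : ∀ l k, U.ι ''ᵁ (N l ⊓ N k) = PrimeSpectrum.basicOpen (g l * g k) := fun l k =>
    image_chart_inf U (hg₀ l.1)
  -- transition units
  choose u₀ hu₀ using fun l k => (he l).exists_coeff (inf_le_left : N l ⊓ N k ≤ N l)
    (rs L (inf_le_right : N l ⊓ N k ≤ N k) (e k))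
  have hu₀u : ∀ l k, IsUnit (u₀ l k) := fun l k =>
    Groth.L18.Frame.isUnit_of_isFrame ((he l).mono inf_le_left) (by rw [hu₀]; exact (he k).mono _)
  have hu : ∀ l k, u₀ l k - 1 ∈ (Ideal.span {f}).map (toSec U (N l ⊓ N k)) := fun l k => by
    refine mem_span_of_app_eq f U _ ?_ _ ?_
    · exact isAffineOpen_of_image U _ (hN₂img l k)
    · show i.app _ (u₀ l k - 1) = 0
      rw [map_sub, map_one, sub_eq_zero]
      refine hσ₀.inj le_top ?_
      rw [one_smul]
      have h := congrArg (pull i L (N l ⊓ N k)) (hu₀ l k)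
      rw [pull_smul, ← pull_rs, ← pull_rs, hpull₀ l.1, hpull₀ k.1, rs_rs, rs_rs] at h
      exact h
  exact ⟨{ ι := ι, g := g, hU := fun l => hg₀ l.1, cov := hcov, e := e, he := he, u := u₀, u_spec := hu₀,
           u_congr := hu }⟩

namespace ChartData

variable [IsLocalRing A] [IsNoetherianRing A] {f : A} {L : (↑(FEt.puncturedSpec A) : Scheme.{u}).Modules}
  (C : ChartData f L)

theorem u_unit (l k : C.ι) : IsUnit (C.u l k) :=
  Groth.L18.Frame.isUnit_of_isFrame ((C.he l).mono inf_le_left) (by rw [C.u_spec]; exact (C.he k).mono _)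

/-- The inverse transition functions. -/
def v (l k : C.ι) : Γ(↑(FEt.puncturedSpec A),
    chart (FEt.puncturedSpec A) (C.g l) ⊓ chart (FEt.puncturedSpec A) (C.g k)) :=
  ↑(C.u_unit l k).unit⁻¹

theorem v_mul (l k : C.ι) : C.v l k * C.u l k = 1 := (C.u_unit l k).val_inv_mul

theorem u_self (l : C.ι) : C.u l l = 1 :=
  (C.he l).inj inf_le_left (by rw [C.u_spec, one_smul])

theorem u_comp (i j k : C.ι) {V : (↑(FEt.puncturedSpec A) : Scheme.{u}).Opens}
    (hij : V ≤ chart _ (C.g i) ⊓ chart _ (C.g j)) (hjk : V ≤ chart _ (C.g j) ⊓ chart _ (C.g k))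
    (hik : V ≤ chart _ (C.g i) ⊓ chart _ (C.g k)) :
    ro hij (C.u i j) * ro hjk (C.u j k) = ro hik (C.u i k) := by
  refine (C.he i).inj (hij.trans inf_le_left) ?_
  have h1 := congrArg (rs L hij) (C.u_spec i j)
  have h2 := congrArg (rs L hjk) (C.u_spec j k)
  have h3 := congrArg (rs L hik) (C.u_spec i k)
  simp only [rs_smul, rs_rs] at h1 h2 h3
  rw [mul_comm, mul_smul, h1, h2, h3]

/-- The cocycle of the dual module. -/
def dualCocycle : Groth.L22.PicGlue.Cocycle (↑(FEt.puncturedSpec A) : Scheme.{u}) where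
  ι := C.ι
  N l := chart (FEt.puncturedSpec A) (C.g l)
  g := C.v
  one i := by
    have := C.v_mul i i
    rwa [C.u_self, mul_one] at this
  comp i j k := by
    show ro _ (C.v i j) * ro _ (C.v j k) = ro _ (C.v i k)
    have h := C.u_comp i j k (V := chart _ (C.g i) ⊓ chart _ (C.g j) ⊓ chart _ (C.g k)) inf_le_left
      (inf_le_inf_right _ inf_le_right) (inf_le_inf_right _ inf_le_left)
    have hi : ∀ (a b : C.ι) (hle : chart _ (C.g i) ⊓ chart _ (C.g j) ⊓ chart _ (C.g k) ≤
        chart _ (C.g a) ⊓ chart (FEt.puncturedSpec A) (C.g b)), ro hle (C.v a b) * ro hle (C.u a b) = 1 :=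
      fun a b hle => by rw [← Groth.L18.Frame.ro_mul, C.v_mul]; exact map_one _
    have e1 := hi i j inf_le_left
    have e2 := hi j k (inf_le_inf_right _ inf_le_right)
    have e3 := hi i k (inf_le_inf_right _ inf_le_left)
    rw [← h] at e3
    linear_combination (-(ro _ (C.v i j) * ro _ (C.v j k))) * e3 +
      (ro _ (C.v i k) * ro _ (C.v j k) * ro _ (C.u j k)) * e1 + ro _ (C.v i k) * e2

variable (hf : f ∈ IsLocalRing.maximalIdeal A) (hnzd : f ∈ nonZeroDivisors A)
  (hdepth : (3 : ℕ∞) ≤ LocCoh.depth A A)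

/-- The atlas of the charts. -/
def atlas : Atlas A :=
  letI algV : ∀ V : (↑(FEt.puncturedSpec A) : Scheme.{u}).Opens, Algebra A Γ(↑(FEt.puncturedSpec A), V) :=
    fun V => (toSec (FEt.puncturedSpec A) V).toAlgebra
  let p := exists_pair_quotient hf hnzd hdepth
  let p' := exists_pair (A := A) (le_trans (by norm_num) hdepth)
  { f := f
    f_mem := hf
    f_nzd := hnzd
    x := p.choose
    y := p.choose_spec.choose
    x_mem := p.choose_spec.choose_spec.1
    y_mem := p.choose_spec.choose_spec.2.1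
    hx := p.choose_spec.choose_spec.2.2.1
    hy := p.choose_spec.choose_spec.2.2.2
    x' := p'.choose
    y' := p'.choose_spec.choose
    x'_mem := p'.choose_spec.choose_spec.1
    y'_mem := p'.choose_spec.choose_spec.2.1
    hx' := p'.choose_spec.choose_spec.2.2.1
    hy' := p'.choose_spec.choose_spec.2.2.2
    ι := C.ι
    g := C.g
    g_mem := fun l => by
      by_contra h
      exact C.hU l (show IsLocalRing.closedPoint A ∈ PrimeSpectrum.basicOpen (C.g l) from h) rfl
    hg := fun p hp hne => by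
      obtain ⟨l, hl⟩ := C.cov ⟨⟨p, hp⟩, fun h => hne (congrArg PrimeSpectrum.asIdeal h)⟩
      exact ⟨l, hl⟩
    R := fun l => Γ(↑(FEt.puncturedSpec A), chart (FEt.puncturedSpec A) (C.g l))
    lR := fun l => isLocalization_toSec _ _ _ (image_chart _ (C.hU l))
    R₂ := fun l k => Γ(↑(FEt.puncturedSpec A),
      chart (FEt.puncturedSpec A) (C.g l) ⊓ chart (FEt.puncturedSpec A) (C.g k))
    lR₂ := fun l k => isLocalization_toSec _ _ _ (image_chart_inf _ (C.hU l))
    r₁ := fun l k =>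
      { ((↑(FEt.puncturedSpec A) : Scheme.{u}).presheaf.map (homOfLE inf_le_left).op).hom with
        commutes' := fun a => ro_toSec (FEt.puncturedSpec A) inf_le_left a }
    r₂ := fun l k =>
      { ((↑(FEt.puncturedSpec A) : Scheme.{u}).presheaf.map (homOfLE inf_le_right).op).hom with
        commutes' := fun a => ro_toSec (FEt.puncturedSpec A) inf_le_right a }
    u := fun l k => (C.u_unit l k).unit
    hu := fun l k => by rw [IsUnit.unit_spec]; exact C.u_congr l k }

theorem mem_M_one {z : (C.atlas hf hnzd hdepth).T}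
    (h : ∀ l k : C.ι, ro inf_le_left (z l) = C.u l k * ro inf_le_right (z k)) :
    z ∈ (C.atlas hf hnzd hdepth).M 1 := fun l k => by
  rw [zpow_one]
  exact h l k

theorem mem_M_neg_one {z : (C.atlas hf hnzd hdepth).T}
    (h : ∀ l k : C.ι, ro inf_le_left (z l) = C.v l k * ro inf_le_right (z k)) :
    z ∈ (C.atlas hf hnzd hdepth).M (-1) := fun l k => by
  rw [zpow_neg_one]
  exact h l k

theorem exists_deg_one (hL : PicF.IsInvertible L) (l : C.ι) :
    ∃ t ∈ (C.atlas hf hnzd hdepth).M 1, IsUnit (t l) := by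
  obtain ⟨t, htu, ht⟩ := exists_extended_tuple C.g hL C.e C.he C.u C.u_spec l
  exact ⟨t, C.mem_M_one hf hnzd hdepth ht, htu⟩

theorem exists_deg_neg_one (l : C.ι) : ∃ c ∈ (C.atlas hf hnzd hdepth).M (-1), IsUnit (c l) := by
  obtain ⟨c, hcu, hc⟩ := exists_extended_tuple C.g
    (Groth.L22.PicGlue.isInvertible_glueMod C.dualCocycle C.cov)
    (Groth.L22.PicGlue.gen C.dualCocycle) (Groth.L22.PicGlue.isGen_gen C.dualCocycle) C.v
    (fun i j => (Groth.L22.PicGlue.gen_trans C.dualCocycle i j).symm) l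
  exact ⟨c, C.mem_M_neg_one hf hnzd hdepth hc, hcu⟩

theorem exists_frame_of_unit_section
    (h : ∃ z ∈ (C.atlas hf hnzd hdepth).M 1, ∀ i, IsUnit (z i)) : ∃ σ : Γ(L, ⊤), IsFrame L ⊤ σ := by
  obtain ⟨z₀, hz, hzu⟩ := h
  let z : ∀ l : C.ι, Γ(↑(FEt.puncturedSpec A), chart (FEt.puncturedSpec A) (C.g l)) := z₀
  have hz' : ∀ l k : C.ι, ro (inf_le_left :
      chart (FEt.puncturedSpec A) (C.g l) ⊓ chart (FEt.puncturedSpec A) (C.g k) ≤ _) (z l) =
      C.u l k * ro inf_le_right (z k) := fun l k => by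
    have := hz l k
    rw [zpow_one] at this
    exact this
  obtain ⟨σ, hσ⟩ := Groth.L21.Extend.exists_glue L (fun l => chart (FEt.puncturedSpec A) (C.g l)) ⊤
    (fun _ => le_top) (fun y _ => C.cov y) (fun l => z l • C.e l) fun l k => by
    show rs L inf_le_left (z l • C.e l) = rs L inf_le_right (z k • C.e k)
    rw [rs_smul, rs_smul, hz', mul_comm, mul_smul, C.u_spec]
  refine ⟨σ, IsFrame.of_cover (fun l => chart (FEt.puncturedSpec A) (C.g l)) (fun _ => le_top)
    (fun y _ => Opens.mem_iSup.2 (C.cov y)) fun l => ?_⟩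
  rw [show rs L le_top σ = z l • C.e l from hσ l]
  exact (C.he l).smul_unit (hzu l)

end ChartData

/-- An invertible module on the punctured spectrum, torsion and trivial modulo `f`, is trivial. -/
theorem exists_frame_top [IsLocalRing A] [IsNoetherianRing A]
    (f : A) (hf : f ∈ IsLocalRing.maximalIdeal A) (hnzd : f ∈ nonZeroDivisors A)
    (hdepth : (3 : ℕ∞) ≤ LocCoh.depth A A)
    (L : (↑(FEt.puncturedSpec A) : Scheme.{u}).Modules) (hL : PicF.IsInvertible L) (n : ℕ)
    (φ : CohB1.tensorPow L (n + 1) ≅ Coh.structureModule _)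
    (ψ : (Scheme.Modules.pullback (Formal2.specQuotMap A f ∣_ FEt.puncturedSpec A)).obj L ≅
      Coh.structureModule _) :
    ∃ σ : Γ(L, ⊤), IsFrame L ⊤ σ := by
  obtain ⟨C⟩ := nonempty_chartData f L hL ψ
  let N : C.ι → (↑(FEt.puncturedSpec A) : Scheme.{u}).Opens := fun l => chart (FEt.puncturedSpec A) (C.g l)
  let v : ∀ l, Γ(↑(FEt.puncturedSpec A), N l) := fun l => φ.hom.app (N l) (epow (C.e l) (n + 1))
  have hvu : ∀ l, IsUnit (v l) := fun l =>
    isUnit_of_frame_structure (isFrame_app φ (isFrame_epow (C.he l) _))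
  have hv : ∀ l k, ro (inf_le_left : N l ⊓ N k ≤ N l) (v l) * C.u l k ^ (n + 1) =
      ro (inf_le_right : N l ⊓ N k ≤ N k) (v k) := fun l k => by
    have h1 : ∀ (m : C.ι) (h : N l ⊓ N k ≤ N m), ro h (v m) = φ.hom.app _ (epow (rs L h (C.e m)) (n + 1)) :=
      fun m h => by rw [← epow_rs]; exact app_rs φ.hom h (epow (C.e m) (n + 1))
    rw [h1, h1, ← C.u_spec l k, epow_smul, Scheme.Modules.Hom.app_smul, mul_comm]
    rfl
  choose t ht htu using C.exists_deg_one hf hnzd hdepth hL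
  exact C.exists_frame_of_unit_section hf hnzd hdepth ((C.atlas hf hnzd hdepth).exists_unit_section_of_torsion
    (n + 1) n.succ_pos t ht htu v hvu hv)

theorem exists_reduction_parameter [IsLocalRing A] [IsNoetherianRing A]
    (hω : ∃ ω : Dual.D A, Dual.IsDualizing A ω) {f : A} (hf : f ∈ IsLocalRing.maximalIdeal A)
    (hnzd : f ∈ nonZeroDivisors A) (hdepth : (3 : ℕ∞) ≤ LocCoh.depth A A)
    (h₄ : ∀ (p : Ideal A) [p.IsPrime], f ∈ p → ringKrullDim (A ⧸ p) = 2 →
      (2 : ℕ∞) ≤ LocCoh.depth (Localization.AtPrime p) (Localization.AtPrime p)) :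
    ∃ x ∈ IsLocalRing.maximalIdeal A, (∀ z, x * z ∈ Ideal.span {f} → z ∈ Ideal.span {f}) ∧
      (1 : ℕ∞) ≤ LocCoh.idealDepth (IsLocalRing.maximalIdeal A) (QuotSMulTop x (QuotSMulTop f A)) ∧
      ∃ k : ℕ, ∀ r ∈ IsLocalRing.maximalIdeal A ^ k,
        ∀ c : LocCoh.H (IsLocalRing.maximalIdeal A) 1 (QuotSMulTop x (QuotSMulTop f A)), r • c = 0 := by
  obtain ⟨x, hx, hreg, hkill⟩ := exists_parameter hω hf hnzd hdepth h₄
  have hregf : IsSMulRegular A f := fun a b h => by
    refine sub_eq_zero.1 ((mem_nonZeroDivisors_iff.1 hnzd).2 _ ?_)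
    rw [mul_comm, mul_sub]
    exact sub_eq_zero.2 h
  have h2 : ((2 : ℕ) : ℕ∞) ≤ LocCoh.idealDepth (IsLocalRing.maximalIdeal A) (QuotSMulTop f A) :=
    (Groth.L04.le_idealDepth_quotSMulTop_iff hf hregf 2).2 (by exact_mod_cast hdepth)
  refine ⟨x, hx, fun z hz => ?_, by exact_mod_cast (Groth.L04.le_idealDepth_quotSMulTop_iff hx hreg 1).2 h2, hkill⟩
  have hmem : ∀ z : A, (Submodule.Quotient.mk z : QuotSMulTop f A) = 0 ↔ z ∈ Ideal.span {f} := fun z => by
    rw [Submodule.Quotient.mk_eq_zero, Submodule.mem_smul_pointwise_iff_exists, Ideal.mem_span_singleton']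
    exact ⟨fun ⟨a, _, ha⟩ => ⟨a, by rw [mul_comm]; exact ha⟩, fun ⟨a, ha⟩ => ⟨a, trivial, by rw [smul_eq_mul, mul_comm]; exact ha⟩⟩
  refine (hmem z).1 (hreg.right_eq_zero_of_smul ?_)
  rw [← Submodule.Quotient.mk_smul]
  exact (hmem _).2 hz

/-- An invertible module on the punctured spectrum which is trivial modulo `f` is trivial. -/
theorem exists_frame_top_of_depth [IsLocalRing A] [IsNoetherianRing A]
    (hω : ∃ ω : Dual.D A, Dual.IsDualizing A ω) (f : A) (hf : f ∈ IsLocalRing.maximalIdeal A)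
    (hnzd : f ∈ nonZeroDivisors A) (hdepth : (3 : ℕ∞) ≤ LocCoh.depth A A)
    (h₄ : ∀ (p : Ideal A) [p.IsPrime], f ∈ p → ringKrullDim (A ⧸ p) = 2 →
      (2 : ℕ∞) ≤ LocCoh.depth (Localization.AtPrime p) (Localization.AtPrime p))
    (L : (↑(FEt.puncturedSpec A) : Scheme.{u}).Modules) (hL : PicF.IsInvertible L)
    (ψ : (Scheme.Modules.pullback (Formal2.specQuotMap A f ∣_ FEt.puncturedSpec A)).obj L ≅
      Coh.structureModule _) :
    ∃ σ : Γ(L, ⊤), IsFrame L ⊤ σ := by
  obtain ⟨C⟩ := nonempty_chartData f L hL ψ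
  choose t ht htu using C.exists_deg_one hf hnzd hdepth hL
  choose c hc hcu using C.exists_deg_neg_one hf hnzd hdepth
  let G : (C.atlas hf hnzd hdepth).Gens :=
    { t := t, c := c, t_mem := ht, c_mem := hc, t_unit := htu, c_unit := hcu }
  obtain ⟨x, hx, hxreg, hB, hkill⟩ := exists_reduction_parameter hω hf hnzd hdepth h₄
  exact C.exists_frame_of_unit_section hf hnzd hdepth (G.exists_unit_section_of_linear x hx hxreg hB hkill)

end Groth.L20.TorsPic
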