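import Mathlib.RingTheory.Length
import Mathlib.RingTheory.Noetherian.Basic
import Mathlib.RingTheory.LocalRing.MaximalIdeal.Basic
import Mathlib.RingTheory.Artinian.Ring
import Mathlib.RingTheory.KrullDimension.Zero
import Mathlib.RingTheory.HopkinsLevitzki
import Mathlib.RingTheory.Ideal.Quotient.Noetherian
import Mathlib.Algebra.Module.Torsion.Basic

/-!
# Relative lengths of submodules
-/

set_option autoImplicit false
set_option linter.style.haveILetI false
universe u v w

noncomputable section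

namespace Groth.L20.TorsPic

variable {A : Type u} [CommRing A] {V : Type v} [AddCommGroup V] [Module A V]
  {W : Type w} [AddCommGroup W] [Module A W]

/-- The length of `x / (x ⊓ y)`. -/
def rl (x y : Submodule A V) : ℕ∞ := Module.length A (x ⧸ y.comap x.subtype)

theorem rl_congr_right {x y y' : Submodule A V} (h : x ⊓ y = x ⊓ y') : rl x y = rl x y' := by
  have : y.comap x.subtype = y'.comap x.subtype := by
    ext a
    exact ⟨fun ha => (h.le ⟨a.2, ha⟩).2, fun ha => (h.ge ⟨a.2, ha⟩).2⟩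
  rw [rl, rl, this]

theorem rl_eq_zero {x y : Submodule A V} (h : x ≤ y) : rl x y = 0 := by
  have : y.comap x.subtype = ⊤ := eq_top_iff.2 fun a _ => h a.2
  rw [rl, Module.length_eq_zero_iff, Submodule.Quotient.subsingleton_iff, this]

theorem le_of_rl_eq_zero {x y : Submodule A V} (h : rl x y = 0) : x ≤ y := fun a ha => by
  rw [rl, Module.length_eq_zero_iff, Submodule.Quotient.subsingleton_iff] at h
  exact (h.ge (Submodule.mem_top (x := (⟨a, ha⟩ : x))) : _)

theorem rl_self (x : Submodule A V) : rl x x = 0 := rl_eq_zero le_rfl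

theorem rl_add {x y z : Submodule A V} (hzy : z ≤ y) (hyx : y ≤ x) : rl x z = rl x y + rl y z := by
  let g : (x ⧸ z.comap x.subtype) →ₗ[A] x ⧸ y.comap x.subtype :=
    Submodule.factor (Submodule.comap_mono hzy)
  let φ : y →ₗ[A] x ⧸ z.comap x.subtype := (z.comap x.subtype).mkQ ∘ₗ Submodule.inclusion hyx
  have hφ : ∀ a : y, a ∈ z.comap y.subtype → φ a = 0 := fun a ha =>
    (Submodule.Quotient.mk_eq_zero _).2 ha
  let i : (y ⧸ z.comap y.subtype) →ₗ[A] x ⧸ z.comap x.subtype := (z.comap y.subtype).liftQ φ hφ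
  have hi : Function.Injective i := by
    rw [← LinearMap.ker_eq_bot, Submodule.eq_bot_iff]
    intro a ha
    obtain ⟨a, rfl⟩ := Submodule.Quotient.mk_surjective _ a
    exact (Submodule.Quotient.mk_eq_zero _).2 ((Submodule.Quotient.mk_eq_zero _).1 ha : _)
  have hg : Function.Surjective g := fun a => by
    obtain ⟨a, rfl⟩ := Submodule.Quotient.mk_surjective _ a
    exact ⟨Submodule.Quotient.mk a, rfl⟩
  have he : Function.Exact i g := fun a => by
    obtain ⟨a, rfl⟩ := Submodule.Quotient.mk_surjective _ a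
    constructor
    · intro h
      exact ⟨Submodule.Quotient.mk ⟨a.1, ((Submodule.Quotient.mk_eq_zero _).1 h : _)⟩, rfl⟩
    · rintro ⟨b, hb⟩
      obtain ⟨b, rfl⟩ := Submodule.Quotient.mk_surjective _ b
      rw [← hb]
      exact (Submodule.Quotient.mk_eq_zero _).2 b.2
  rw [rl, Module.length_eq_add_of_exact i g hi hg he, add_comm]
  rfl

theorem rl_map (φ : V →ₗ[A] W) (x y : Submodule A V) :
    rl (x.map φ) (y.map φ) = rl x ((y.map φ).comap φ) := by
  let ψ : x →ₗ[A] (x.map φ) ⧸ (y.map φ).comap (x.map φ).subtype :=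
    ((y.map φ).comap (x.map φ).subtype).mkQ ∘ₗ φ.submoduleMap x
  have hψ : Function.Surjective ψ :=
    (Submodule.mkQ_surjective _).comp (LinearMap.submoduleMap_surjective φ x)
  have hk : LinearMap.ker ψ = ((y.map φ).comap φ).comap x.subtype := by
    ext a
    simp only [ψ, LinearMap.mem_ker, LinearMap.comp_apply, Submodule.mkQ_apply,
      Submodule.Quotient.mk_eq_zero, Submodule.mem_comap]
    rfl
  exact ((ψ.quotKerEquivOfSurjective hψ).symm.trans (Submodule.quotEquivOfEq _ _ hk)).length_eq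

theorem rl_map_injOn (φ : V →ₗ[A] W) {x y : Submodule A V} (hyx : y ≤ x)
    (h : x ⊓ LinearMap.ker φ ≤ y) : rl (x.map φ) (y.map φ) = rl x y := by
  rw [rl_map]
  refine rl_congr_right (le_antisymm ?_ (le_inf inf_le_left (inf_le_right.trans (Submodule.le_comap_map _ _))))
  rintro a ⟨hax, b, hby, hb⟩
  refine ⟨hax, ?_⟩
  have : a - b ∈ y := h ⟨x.sub_mem hax (hyx hby), by simp [hb]⟩
  simpa using y.add_mem this hby

theorem rl_sup (x y : Submodule A V) : rl (x ⊔ y) y = rl x (x ⊓ y) := by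
  let φ : x →ₗ[A] ↥(x ⊔ y) ⧸ y.comap (x ⊔ y).subtype :=
    (y.comap (x ⊔ y).subtype).mkQ ∘ₗ Submodule.inclusion le_sup_left
  have hφ : Function.Surjective φ := fun a => by
    obtain ⟨⟨a, ha⟩, rfl⟩ := Submodule.Quotient.mk_surjective _ a
    obtain ⟨b, hb, c, hc, rfl⟩ := Submodule.mem_sup.1 ha
    refine ⟨⟨b, hb⟩, (Submodule.Quotient.eq _).2 ?_⟩
    show b - (b + c) ∈ y
    simpa using y.neg_mem hc
  have hk : LinearMap.ker φ = (x ⊓ y).comap x.subtype := by
    ext a
    simp only [φ, LinearMap.mem_ker, LinearMap.comp_apply, Submodule.mkQ_apply,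
      Submodule.Quotient.mk_eq_zero, Submodule.mem_comap]
    exact ⟨fun h => ⟨a.2, h⟩, fun h => h.2⟩
  exact ((φ.quotKerEquivOfSurjective hφ).symm.trans (Submodule.quotEquivOfEq _ _ hk)).length_eq

theorem rl_split (φ : V →ₗ[A] W) {x y : Submodule A V} (hyx : y ≤ x) :
    rl x y = rl (x.map φ) (y.map φ) + rl (x ⊓ LinearMap.ker φ) (y ⊓ LinearMap.ker φ) := by
  let z := y ⊔ x ⊓ LinearMap.ker φ
  have hzx : z ≤ x := sup_le hyx inf_le_left
  rw [rl_add (le_sup_left : y ≤ z) hzx]
  congr 1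
  · rw [rl_map]
    refine rl_congr_right (le_antisymm ?_ ?_)
    · rintro a ⟨hax, haz⟩
      obtain ⟨b, hb, c, hc, rfl⟩ := Submodule.mem_sup.1 haz
      exact ⟨hax, b, hb, by simp [LinearMap.mem_ker.1 hc.2]⟩
    · rintro a ⟨hax, b, hby, hb⟩
      refine ⟨hax, ?_⟩
      have : a - b ∈ x ⊓ LinearMap.ker φ := ⟨x.sub_mem hax (hyx hby), by simp [hb]⟩
      simpa using Submodule.add_mem_sup hby this
  · show rl (y ⊔ x ⊓ LinearMap.ker φ) y = _
    rw [sup_comm, rl_sup]
    refine rl_congr_right ?_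
    ext a
    exact ⟨fun h => ⟨h.1, h.2.2, h.1.2⟩, fun h => ⟨h.1, h.1, h.2.1⟩⟩

theorem rl_prod (x y : Submodule A V) (x' y' : Submodule A W) :
    rl (x.prod x') (y.prod y') = rl x y + rl x' y' := by
  let φ : ↥(x.prod x') →ₗ[A] (x ⧸ y.comap x.subtype) × (x' ⧸ y'.comap x'.subtype) :=
    LinearMap.prod
      ((y.comap x.subtype).mkQ ∘ₗ
        LinearMap.codRestrict x (LinearMap.fst A V W ∘ₗ (x.prod x').subtype) fun a => a.2.1)
      ((y'.comap x'.subtype).mkQ ∘ₗ
        LinearMap.codRestrict x' (LinearMap.snd A V W ∘ₗ (x.prod x').subtype) fun a => a.2.2)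
  have hφ : Function.Surjective φ := fun ⟨a, b⟩ => by
    obtain ⟨a, rfl⟩ := Submodule.Quotient.mk_surjective _ a
    obtain ⟨b, rfl⟩ := Submodule.Quotient.mk_surjective _ b
    exact ⟨⟨(a.1, b.1), a.2, b.2⟩, rfl⟩
  have hk : LinearMap.ker φ = (y.prod y').comap (x.prod x').subtype := by
    ext a
    simp only [φ, LinearMap.mem_ker, LinearMap.prod_apply, Function.prod, Prod.ext_iff, Prod.fst_zero,
      Prod.snd_zero, LinearMap.comp_apply, Submodule.mkQ_apply, Submodule.Quotient.mk_eq_zero,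
      Submodule.mem_comap, Submodule.mem_prod]
    rfl
  rw [rl, ((φ.quotKerEquivOfSurjective hφ).symm.trans (Submodule.quotEquivOfEq _ _ hk)).symm.length_eq,
    Module.length_prod]
  rfl

theorem rl_ne_top [IsLocalRing A] [IsNoetherianRing A] {x y : Submodule A V} (hx : x.FG) {k : ℕ}
    (h : ∀ a ∈ IsLocalRing.maximalIdeal A ^ k, ∀ b ∈ x, a • b ∈ y) : rl x y ≠ ⊤ := by
  haveI : Module.Finite A x := Module.Finite.iff_fg.2 hx
  have hM : Module.IsTorsionBySet A (x ⧸ y.comap x.subtype)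
      ((IsLocalRing.maximalIdeal A ^ k : Ideal A) : Set A) := fun q a => by
    obtain ⟨b, rfl⟩ := Submodule.Quotient.mk_surjective _ q
    rw [← Submodule.Quotient.mk_smul, Submodule.Quotient.mk_eq_zero]
    exact h a.1 a.2 b.1 b.2
  haveI : Ring.KrullDimLE 0 (A ⧸ IsLocalRing.maximalIdeal A ^ k) :=
    Ring.krullDimLE_zero_iff.2 fun P hP => by
      have hP' : IsLocalRing.maximalIdeal A ≤ P.comap (Ideal.Quotient.mk _) := fun a ha => by
        refine hP.mem_of_pow_mem k ?_
        rw [← map_pow, Ideal.Quotient.eq_zero_iff_mem.2 (Ideal.pow_mem_pow ha k)]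
        exact P.zero_mem
      have hQ := (IsLocalRing.maximalIdeal.isMaximal A).eq_of_le
        (Ideal.comap_ne_top _ hP.ne_top) hP'
      have h2 := Ideal.map_comap_of_surjective (Ideal.Quotient.mk (IsLocalRing.maximalIdeal A ^ k))
        Ideal.Quotient.mk_surjective P
      rw [← hQ] at h2
      exact h2 ▸ (Ideal.map_eq_top_or_isMaximal_of_surjective _ Ideal.Quotient.mk_surjective
        (IsLocalRing.maximalIdeal.isMaximal A)).resolve_left (h2 ▸ hP.ne_top)
  haveI : IsArtinianRing (A ⧸ IsLocalRing.maximalIdeal A ^ k) :=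
    IsNoetherianRing.isArtinianRing_of_krullDimLE_zero
  letI := hM.module
  haveI : IsScalarTower A (A ⧸ IsLocalRing.maximalIdeal A ^ k) (x ⧸ y.comap x.subtype) := hM.isScalarTower
  haveI : Module.Finite (A ⧸ IsLocalRing.maximalIdeal A ^ k) (x ⧸ y.comap x.subtype) :=
    Module.Finite.of_restrictScalars_finite A _ _
  haveI : IsArtinian (A ⧸ IsLocalRing.maximalIdeal A ^ k) (x ⧸ y.comap x.subtype) :=
    isArtinian_of_fg_of_artinian' 
  haveI : IsArtinian A (x ⧸ y.comap x.subtype) :=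
    isArtinian_of_surjective_algebraMap (R := A ⧸ IsLocalRing.maximalIdeal A ^ k) (S := A)
      Ideal.Quotient.mk_surjective
  rw [rl, Module.length_ne_top_iff, isFiniteLength_iff_isNoetherian_isArtinian]
  exact ⟨inferInstance, inferInstance⟩

end Groth.L20.TorsPic

namespace Groth.L20.TorsPic

variable {A : Type u} [CommRing A] {V : Type v} [AddCommGroup V] [Module A V]
  {W : Type w} [AddCommGroup W] [Module A W]

theorem rl_comap (φ : V →ₗ[A] W) (x : Submodule A V) (y : Submodule A W) :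
    rl x (y.comap φ) = rl (x.map φ) y := by
  let ψ : x →ₗ[A] (x.map φ) ⧸ y.comap (x.map φ).subtype :=
    (y.comap (x.map φ).subtype).mkQ ∘ₗ φ.submoduleMap x
  have hψ : Function.Surjective ψ :=
    (Submodule.mkQ_surjective _).comp (LinearMap.submoduleMap_surjective φ x)
  have hk : LinearMap.ker ψ = (y.comap φ).comap x.subtype := by
    ext a
    simp only [ψ, LinearMap.mem_ker, LinearMap.comp_apply, Submodule.mkQ_apply,
      Submodule.Quotient.mk_eq_zero, Submodule.mem_comap]
    rfl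
  exact ((Submodule.quotEquivOfEq _ _ hk.symm).trans (ψ.quotKerEquivOfSurjective hψ)).length_eq

theorem rl_mono_left {x x' : Submodule A V} (h : x ≤ x') (y : Submodule A V) : rl x y ≤ rl x' y := by
  let φ : (x ⧸ y.comap x.subtype) →ₗ[A] x' ⧸ y.comap x'.subtype :=
    (y.comap x.subtype).mapQ _ (Submodule.inclusion h) fun a ha => ha
  refine Module.length_le_of_injective φ ?_
  rw [← LinearMap.ker_eq_bot, Submodule.eq_bot_iff]
  intro a ha
  obtain ⟨a, rfl⟩ := Submodule.Quotient.mk_surjective _ a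
  exact (Submodule.Quotient.mk_eq_zero _).2 ((Submodule.Quotient.mk_eq_zero _).1 ha : _)

theorem rl_anti_right {x y y' : Submodule A V} (h : x ⊓ y ≤ y') : rl x y' ≤ rl x y := by
  refine Module.length_le_of_surjective
    (Submodule.factor (show y.comap x.subtype ≤ y'.comap x.subtype from fun a ha => h ⟨a.2, ha⟩)) ?_
  intro a
  obtain ⟨a, rfl⟩ := Submodule.Quotient.mk_surjective _ a
  exact ⟨Submodule.Quotient.mk a, rfl⟩

/-- Filtering by the powers of an element. -/
theorem rl_le_mul {x : A} {S S₀ : Submodule A V} {c : ℕ∞}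
    (hc : rl (S ⊓ S₀.comap (LinearMap.lsmul A V x)) S₀ ≤ c) (N : ℕ)
    (hN : ∀ s ∈ S, x ^ N • s ∈ S₀) (h₀ : S₀ ≤ S) : rl S S₀ ≤ N * c := by
  let F : ℕ → Submodule A V := fun i => S ⊓ S₀.comap (LinearMap.lsmul A V (x ^ i))
  have hF : ∀ i, F i ≤ F (i + 1) := fun i a ha => ⟨ha.1, by
    show x ^ (i + 1) • a ∈ S₀
    rw [pow_succ', mul_smul]
    exact S₀.smul_mem x ha.2⟩
  have h0 : ∀ i, S₀ ≤ F i := fun i a ha => ⟨h₀ ha, S₀.smul_mem (x ^ i) ha⟩
  have hind : ∀ i, rl (F i) S₀ ≤ i * c := by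
    intro i
    induction i with
    | zero =>
      refine le_of_eq ((rl_eq_zero fun a ha => ?_).trans (by simp))
      have h : x ^ 0 • a ∈ S₀ := ha.2
      rwa [pow_zero, one_smul] at h
    | succ i ih =>
      have hs : rl (F (i + 1)) (F i) ≤ c := by
        rw [rl_congr_right (y' := S₀.comap (LinearMap.lsmul A V (x ^ i)))
          (show F (i + 1) ⊓ F i = F (i + 1) ⊓ S₀.comap (LinearMap.lsmul A V (x ^ i)) from
            le_antisymm (fun a ha => ⟨ha.1, ha.2.2⟩) fun a ha => ⟨ha.1, ha.1.1, ha.2⟩), rl_comap]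
        refine le_trans (rl_mono_left ?_ _) hc
        rintro _ ⟨a, ha, rfl⟩
        refine ⟨S.smul_mem (x ^ i) ha.1, ?_⟩
        show x • x ^ i • a ∈ S₀
        rw [← mul_smul, ← pow_succ']
        exact ha.2
      rw [rl_add (h0 i) (hF i), Nat.cast_succ, add_mul, one_mul, add_comm (rl (F (i + 1)) (F i))]
      exact add_le_add ih hs
  refine le_trans ?_ (hind N)
  exact rl_mono_left (show S ≤ F N from fun a ha => ⟨ha, hN a ha⟩) _

end Groth.L20.TorsPic
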